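import Cfsg.Agent.Lib.M11Unique.SemiDihedral
import Cfsg.Agent.Lib.BrauerTuan.SeventyNineTwentyNormalizer
import Cfsg.Agent.Lib.SmallOrder.Basic

/-!
# Coordinates in the normalizer of a Sylow 3-subgroup of a simple group of order 7920
-/

set_option autoImplicit false
set_option linter.style.haveILetI false

namespace CfsgLib.M11Unique

open CfsgLib CfsgLib.BrauerTuan

universe u

/-- the plane over the field of three elements -/
abbrev V3 : Type := Fin 2 → ZMod 3

/-- Coordinates on a Sylow 3-subgroup and on its normalizer. -/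
structure Frame (G : Type u) [Group G] where
  /-- the Sylow subgroup -/
  P : Sylow 3 G
  /-- the parametrization -/
  v : V3 → G
  v_zero : v 0 = 1
  v_add : ∀ a b, v (a + b) = v a * v b
  v_inj : Function.Injective v
  mem_P : ∀ g, g ∈ (P : Subgroup G) ↔ ∃ a, v a = g
  /-- the linear action -/
  ρ : Subgroup.normalizer ((P : Subgroup G) : Set G) →* Mat3
  act : ∀ (n : Subgroup.normalizer ((P : Subgroup G) : Set G)) a,
    (n : G) * v a * (n : G)⁻¹ = v ((ρ n).mulVec a)
  eq_one : ∀ n : Subgroup.normalizer ((P : Subgroup G) : Set G), ρ n = 1 ↔ (n : G) ∈ (P : Subgroup G)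
  inT : ∀ n, InT (ρ n)
  surj : ∀ m, InT m → ∃ n, ρ n = m

variable {G : Type u} [Group G] [Fintype G] [IsSimpleGroup G]

omit [IsSimpleGroup G] in
theorem card_sylow_three (hn : Nat.card G = 7920) (P : Sylow 3 G) :
    Nat.card (P : Subgroup G) = 9 := by
  haveI : Fact (Nat.Prime 3) := ⟨by norm_num⟩
  rw [P.card_eq_multiplicity, hn, show (7920 : ℕ) = 3 ^ 2 * 880 by norm_num,
    factorization_pow_mul_7920 (by norm_num) (by norm_num)]
  rfl

/-- Sylow 3-subgroups are self-centralizing. -/
theorem mem_of_centralizes (hn : Nat.card G = 7920) (P : Sylow 3 G) {g : G}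
    (hg : ∀ y ∈ (P : Subgroup G), g * y = y * g) : g ∈ (P : Subgroup G) := by
  haveI : Fact (Nat.Prime 3) := ⟨by norm_num⟩
  haveI : IsMulCommutative (P : Subgroup G) :=
    IsPGroup.isMulCommutative_of_card_eq_prime_sq (p := 3) (card_sylow_three hn P)
  set C := Subgroup.centralizer ((P : Subgroup G) : Set G) with hC
  have hd : Nat.card C ∣ 144 :=
    normalizer_7920 hn P ▸ Subgroup.card_dvd_of_le (Subgroup.centralizer_le_normalizer _)
  have h2 : ¬ 2 ∣ Nat.card C := by
    intro h
    obtain ⟨t, ht⟩ := exists_prime_orderOf_dvd_card' 2 h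
    have hle : (P : Subgroup G) ≤ Subgroup.centralizer ({(t : G)} : Set G) := fun y hy =>
      Subgroup.mem_centralizer_singleton_iff.mpr (Subgroup.mem_centralizer_iff.mp t.2 y hy)
    have := Subgroup.card_dvd_of_le hle
    rw [card_sylow_three hn P, (involution_7920 hn).1 _ (by rw [Subgroup.orderOf_coe, ht])] at this
    norm_num at this
  have h9 : Nat.card C ∣ 9 :=
    ((Nat.prime_two.coprime_iff_not_dvd.mpr h2).symm.pow_right 4).dvd_of_dvd_mul_left
      (show _ ∣ 2 ^ 4 * 9 by norm_num; exact hd)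
  have heq := Subgroup.eq_of_le_of_card_ge (P : Subgroup G).le_centralizer
    (by rw [card_sylow_three hn P]; exact Nat.le_of_dvd (by norm_num) h9)
  exact heq.ge (Subgroup.mem_centralizer_iff.mpr fun y hy => (hg y hy).symm)

theorem pow_three_eq_one (hn : Nat.card G = 7920) (P : Sylow 3 G) {y : G} (hy : y ∈ (P : Subgroup G)) :
    y ^ 3 = 1 := by
  classical
  haveI : Fact (Nat.Prime 3) := ⟨by norm_num⟩
  by_contra hne
  set N := Subgroup.normalizer ((P : Subgroup G) : Set G)
  have hyo : orderOf y = 9 := by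
    have hd : orderOf y ∣ 3 ^ 2 := by
      have := Subgroup.orderOf_dvd_natCard _ hy
      rwa [card_sylow_three hn P] at this
    obtain ⟨i, hi, he⟩ := (Nat.dvd_prime_pow (by norm_num : Nat.Prime 3)).mp hd
    rcases (show i ≤ 1 ∨ i = 2 by omega) with h | h
    · exact absurd (orderOf_dvd_iff_pow_eq_one.mp (he ▸ (Nat.pow_dvd_pow 3 h))) hne
    · rw [he, h]; rfl
  have hzp : Subgroup.zpowers y = (P : Subgroup G) :=
    Subgroup.eq_of_le_of_card_ge (Subgroup.zpowers_le.mpr hy)
      (by rw [Nat.card_zpowers, hyo, card_sylow_three hn P])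
  have hb : ∀ x : N, ∃ i : Fin 9, (x : G) * y * (x : G)⁻¹ = y ^ i.val := by
    intro x
    have h1 : (x : G) * y * (x : G)⁻¹ ∈ Subgroup.zpowers y := by
      rw [hzp]; exact (Subgroup.mem_normalizer_iff.mp x.2 _).mp hy
    obtain ⟨i, hi⟩ := (mem_powers_iff_mem_zpowers.mpr h1 : _ ∈ Submonoid.powers y)
    refine ⟨⟨i % 9, Nat.mod_lt _ (by norm_num)⟩, ?_⟩
    have e := pow_mod_orderOf y i
    rw [hyo] at e
    exact hi.symm.trans e.symm
  choose f hf using hb
  have hle := Finset.card_le_mul_card_image (f := f) (Finset.univ : Finset N) 9 (by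
    intro i hi
    obtain ⟨x, -, hx⟩ := Finset.mem_image.mp hi
    refine le_trans (Finset.card_le_card_of_injOn (t := (Finset.univ : Finset (P : Subgroup G)))
      (fun z => if h : ((x : G)⁻¹ * z) ∈ (P : Subgroup G) then (⟨_, h⟩ : (P : Subgroup G)) else 1)
      (fun z _ => Finset.mem_univ _) fun z hz w hw hzw => ?_) (by
        rw [Finset.card_univ, ← Nat.card_eq_fintype_card, card_sylow_three hn P])
    have hmem : ∀ z : N, f z = i → (x : G)⁻¹ * (z : G) ∈ (P : Subgroup G) := by
      intro z hz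
      refine mem_of_centralizes hn P fun q hq => ?_
      rw [← hzp] at hq
      obtain ⟨k, rfl⟩ := Subgroup.mem_zpowers_iff.mp hq
      have h1 : (z : G) * y * (z : G)⁻¹ = (x : G) * y * (x : G)⁻¹ := by rw [hf, hf, hz, hx]
      have hc : Commute ((x : G)⁻¹ * z) y := by
        show (x : G)⁻¹ * z * y = y * ((x : G)⁻¹ * z)
        calc (x : G)⁻¹ * z * y = (x : G)⁻¹ * ((z : G) * y * (z : G)⁻¹) * z := by group
          _ = y * ((x : G)⁻¹ * z) := by rw [h1]; group
      exact (hc.zpow_right k).eq
    simp only [Finset.coe_filter] at hz hw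
    simp only [dif_pos (hmem z hz.2), dif_pos (hmem w hw.2)] at hzw
    exact Subtype.ext (mul_left_cancel (congrArg Subtype.val hzw)))
  have hle2 := Finset.card_le_univ (Finset.univ.image f)
  rw [Finset.card_univ, ← Nat.card_eq_fintype_card, normalizer_7920 hn P] at hle
  simp at hle2
  omega

theorem exists_frame (hn : Nat.card G = 7920) : Nonempty (Frame G) := by
  classical
  haveI : Fact (Nat.Prime 3) := ⟨by norm_num⟩
  haveI : Fact (Nat.Prime 2) := ⟨by norm_num⟩
  obtain ⟨P⟩ := (inferInstance : Nonempty (Sylow 3 G))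
  set N := Subgroup.normalizer ((P : Subgroup G) : Set G) with hN
  have hP9 := card_sylow_three hn P
  haveI hab : IsMulCommutative (P : Subgroup G) :=
    IsPGroup.isMulCommutative_of_card_eq_prime_sq (p := 3) hP9
  obtain ⟨p, hp⟩ := exists_prime_orderOf_dvd_card' (G := (P : Subgroup G)) 3 (by rw [hP9]; norm_num)
  obtain ⟨q, hq⟩ : ∃ q : (P : Subgroup G), q ∉ Subgroup.zpowers p := by
    by_contra! h
    have : Subgroup.zpowers p = ⊤ := eq_top_iff.mpr fun x _ => h x
    have hc := congrArg (fun H : Subgroup (P : Subgroup G) => Nat.card H) this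
    simp only [Nat.card_zpowers, hp, Subgroup.card_top, hP9] at hc
    omega
  have h3 : ∀ y : (P : Subgroup G), y ^ 3 = 1 := fun y => Subtype.ext (by
    rw [Subgroup.coe_pow, Subgroup.coe_one]; exact pow_three_eq_one hn P y.2)
  have hval : ∀ (y : (P : Subgroup G)) (a b : ZMod 3), y ^ (a + b).val = y ^ a.val * y ^ b.val := by
    intro y a b
    rw [ZMod.val_add, ← pow_add]
    exact (pow_eq_pow_mod _ (h3 y)).symm
  have hcomm : ∀ x y : (P : Subgroup G), x * y = y * x := fun x y => hab.is_comm.comm x y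
  let w : V3 → (P : Subgroup G) := fun a => p ^ (a 0).val * q ^ (a 1).val
  have hw_add : ∀ a b, w (a + b) = w a * w b := by
    intro a b
    show p ^ (a 0 + b 0).val * q ^ (a 1 + b 1).val = _
    rw [hval, hval]
    show _ = p ^ (a 0).val * q ^ (a 1).val * (p ^ (b 0).val * q ^ (b 1).val)
    rw [mul_assoc, mul_assoc, ← mul_assoc (p ^ (b 0).val), hcomm (p ^ (b 0).val) (q ^ (a 1).val), mul_assoc]
  have hw0 : w 0 = 1 := by simp [w]
  have hker : ∀ a, w a = 1 → a = 0 := by
    intro a ha
    change p ^ (a 0).val * q ^ (a 1).val = 1 at ha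
    have h1 : a 1 = 0 := by
      by_contra h1
      have hmem : q ^ (a 1).val ∈ Subgroup.zpowers p := by
        rw [eq_inv_of_mul_eq_one_right ha]
        exact inv_mem (pow_mem (Subgroup.mem_zpowers p) _)
      refine hq ?_
      have key : q = (q ^ (a 1).val) ^ (a 1).val := by
        rw [← pow_mul, pow_eq_pow_mod _ (h3 q)]
        have h12 : (a 1).val = 1 ∨ (a 1).val = 2 := by
          have := ZMod.val_lt (a 1)
          have : (a 1).val ≠ 0 := fun h => h1 ((ZMod.val_eq_zero _).mp h)
          omega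
        rcases h12 with e | e <;> rw [e] <;> norm_num
      exact key ▸ pow_mem hmem _
    rw [h1, ZMod.val_zero, pow_zero, mul_one] at ha
    have h0 : a 0 = 0 := by
      have hd := orderOf_dvd_of_pow_eq_one ha
      rw [hp] at hd
      have := ZMod.val_lt (a 0)
      exact (ZMod.val_eq_zero _).mp (Nat.eq_zero_of_dvd_of_lt hd this)
    funext i
    fin_cases i
    · exact h0
    · exact h1
  have hw_inj : Function.Injective w := by
    intro a b hab'
    refine sub_eq_zero.mp (hker _ ?_)
    have h := hw_add (a - b) b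
    rw [sub_add_cancel, hab'] at h
    exact right_eq_mul.mp h
  have hw_bij : Function.Bijective w := (Nat.bijective_iff_injective_and_card _).mpr ⟨hw_inj, by
    rw [hP9, Nat.card_eq_fintype_card]; simp⟩
  let e := Equiv.ofBijective w hw_bij
  have he : ∀ x, w (e.symm x) = x := fun x => e.apply_symm_apply x
  let c : N → ↥(P : Subgroup G) → ↥(P : Subgroup G) := fun n (x : (P : Subgroup G)) =>
    ⟨(n : G) * (x : G) * (n : G)⁻¹, (Subgroup.mem_normalizer_iff.mp n.2 _).mp x.2⟩
  let α : N → V3 →ₗ[ZMod 3] V3 := fun n => AddMonoidHom.toZModLinearMap 3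
    (AddMonoidHom.mk' (fun a => e.symm (c n (w a))) fun a b => by
      apply hw_inj
      rw [hw_add, hw_add, he, he, he]
      refine Subtype.ext ?_
      show (n : G) * ((w a : (P : Subgroup G)) * (w b : (P : Subgroup G)) : G) * (n : G)⁻¹ =
        (n : G) * (w a : (P : Subgroup G)) * (n : G)⁻¹ * ((n : G) * (w b : (P : Subgroup G)) * (n : G)⁻¹)
      group)
  have hα : ∀ n a, w (α n a) = c n (w a) := fun n a => he _
  let r : N →* Mat3 :=
    { toFun := fun n => LinearMap.toMatrix' (α n)
      map_one' := by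
        rw [← LinearMap.toMatrix'_id]
        congr 1
        refine LinearMap.ext fun a => hw_inj ?_
        rw [hα]
        exact Subtype.ext (show (1 : G) * _ * (1 : G)⁻¹ = _ by simp)
      map_mul' := fun n m => by
        rw [← LinearMap.toMatrix'_comp]
        congr 1
        refine LinearMap.ext fun a => hw_inj ?_
        rw [hα, LinearMap.comp_apply, hα, hα]
        refine Subtype.ext ?_
        show ((n : G) * m) * _ * ((n : G) * m)⁻¹ = (n : G) * ((m : G) * _ * (m : G)⁻¹) * (n : G)⁻¹
        group }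
  have hact : ∀ (n : N) a, (n : G) * w a * (n : G)⁻¹ = w ((r n).mulVec a) := fun n a => by
    show _ = ((w ((LinearMap.toMatrix' (α n)).mulVec a) : (P : Subgroup G)) : G)
    rw [LinearMap.toMatrix'_mulVec, hα]
  have hone : ∀ n, r n = 1 ↔ (n : G) ∈ (P : Subgroup G) := by
    intro n
    constructor
    · intro h
      refine mem_of_centralizes hn P fun y hy => ?_
      have := hact n (e.symm ⟨y, hy⟩)
      rw [h, Matrix.one_mulVec, he] at this
      exact mul_inv_eq_iff_eq_mul.mp this
    · intro h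
      refine Matrix.ext_of_mulVec_single fun i => hw_inj (Subtype.ext ?_)
      rw [← hact, Matrix.one_mulVec]
      have := hcomm ⟨n, h⟩ (w (Pi.single i 1))
      have h' : (n : G) * w (Pi.single i 1) = w (Pi.single i 1) * n := congrArg Subtype.val this
      rw [h', mul_inv_cancel_right]
  -- the image is a Sylow 2-subgroup
  set ru := r.toHomUnits with hru
  have hkerN : ru.ker = (P : Subgroup G).subgroupOf N := by
    ext n
    rw [MonoidHom.mem_ker, Subgroup.mem_subgroupOf, ← hone, Units.ext_iff, MonoidHom.coe_toHomUnits,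
      Units.val_one]
  have hcard : Nat.card ru.range = 2 ^ 4 := by
    have h := Subgroup.card_mul_index ru.ker
    rw [Subgroup.index_ker, normalizer_7920 hn P, hkerN,
      Nat.card_congr (Subgroup.subgroupOfEquivOfLe Subgroup.le_normalizer).toEquiv, hP9] at h
    omega
  obtain ⟨Q, hQ⟩ := (IsPGroup.of_card hcard).exists_le_sylow
  obtain ⟨g, hg⟩ := MulAction.exists_smul_eq (GL (Fin 2) (ZMod 3)) Q sdSylow
  have hsd : ∀ x ∈ ru.range, g * x * g⁻¹ ∈ sdGroup := by
    intro x hx
    have : g * x * g⁻¹ ∈ (sdSylow : Subgroup (GL (Fin 2) (ZMod 3))) := by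
      rw [← hg, Sylow.coe_subgroup_smul]
      exact Subgroup.smul_mem_pointwise_smul _ (MulAut.conj g) _ (hQ hx)
    exact this
  let r' : N →* Mat3 := (Units.coeHom Mat3).comp ((MulAut.conj g).toMonoidHom.comp ru)
  have hr' : ∀ n, r' n = (g : Mat3) * r n * ((g⁻¹ : GL (Fin 2) (ZMod 3)) : Mat3) := fun n => rfl
  let v' : V3 → G := fun a => w (((g⁻¹ : GL (Fin 2) (ZMod 3)) : Mat3).mulVec a)
  refine ⟨⟨P, v', ?_, ?_, ?_, ?_, r', ?_, ?_, ?_, ?_⟩⟩
  · show ((w _ : (P : Subgroup G)) : G) = 1
    rw [Matrix.mulVec_zero, hw0, Subgroup.coe_one]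
  · intro a b
    show ((w _ : (P : Subgroup G)) : G) = (w _ : G) * (w _ : G)
    rw [Matrix.mulVec_add, hw_add, Subgroup.coe_mul]
  · intro a b hab'
    have h := congrArg ((g : Mat3).mulVec) (hw_inj (Subtype.ext hab'))
    rwa [Matrix.mulVec_mulVec, Matrix.mulVec_mulVec, Units.mul_inv, Matrix.one_mulVec,
      Matrix.one_mulVec] at h
  · intro x
    constructor
    · intro hx
      refine ⟨(g : Mat3).mulVec (e.symm ⟨x, hx⟩), ?_⟩
      show ((w _ : (P : Subgroup G)) : G) = x
      rw [Matrix.mulVec_mulVec, Units.inv_mul, Matrix.one_mulVec, he]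
    · rintro ⟨a, rfl⟩
      exact (w _).2
  · intro n a
    show _ = ((w _ : (P : Subgroup G)) : G)
    rw [hr', Matrix.mulVec_mulVec, ← mul_assoc, ← mul_assoc, Units.inv_mul, one_mul,
      ← Matrix.mulVec_mulVec]
    exact hact n _
  · intro n
    rw [← hone, hr']
    constructor
    · intro h
      have := congrArg (fun M => ((g⁻¹ : GL (Fin 2) (ZMod 3)) : Mat3) * M * (g : Mat3)) h
      simpa [mul_assoc, Units.inv_mul] using this
    · intro h
      rw [h, mul_one, Units.mul_inv]
  · intro n
    exact mem_sdGroup.mp (hsd _ ⟨n, rfl⟩)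
  · intro m hm
    set φ := (MulAut.conj g).toMonoidHom.comp ru with hφ
    have hle : φ.range ≤ sdGroup := by
      rintro _ ⟨n, rfl⟩
      exact hsd _ ⟨n, rfl⟩
    have heq : φ.range = sdGroup := by
      refine Subgroup.eq_of_le_of_card_ge hle ?_
      rw [card_sdGroup, hφ, MonoidHom.range_comp,
        Nat.card_congr (Subgroup.equivMapOfInjective _ _ (MulAut.conj g).injective).toEquiv.symm, hcard]
      norm_num
    obtain ⟨n, hn'⟩ := heq.ge (show Matrix.GeneralLinearGroup.mkOfDetNeZero m hm.1 ∈ sdGroup from hm)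
    exact ⟨n, (congrArg Units.val hn').trans rfl⟩

end CfsgLib.M11Unique
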