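import Cfsg.Agent.Lib.M11Unique.Model
import Cfsg.Agent.Lib.BrauerTuan.SeventyNineTwentyInvolution
import Cfsg.Agent.Lib.SmallOrder.Basic

/-!
# A simple group of order 7920 with a subgroup of index 11 is the model group
-/

set_option autoImplicit false
set_option linter.style.haveILetI false

namespace CfsgLib.M11Unique

open CfsgLib CfsgLib.BrauerTuan

universe u

variable {G : Type u} [Group G] [Fintype G] [IsSimpleGroup G]

theorem not_comm (hn : Nat.card G = 7920) : ¬ IsMulCommutative G :=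
  SmallOrder.not_comm_of_not_prime (by rw [hn]; norm_num)

/-- Proper subgroups have index at least 11. -/
theorem eleven_le_index (hn : Nat.card G = 7920) {H : Subgroup G} (hH : H ≠ ⊤) : 11 ≤ H.index := by
  by_contra hlt
  have hd := SmallOrder.two_mul_card_dvd_factorial (not_comm hn) hH
  rw [hn] at hd
  have := SmallOrder.two_le_index hH
  interval_cases hi : H.index <;> norm_num [Nat.factorial] at hd

omit [Fintype G] [IsSimpleGroup G] in
theorem conj_pow_iter {a b : G} {j : ℕ} (h : b * a * b⁻¹ = a ^ j) (m : ℕ) :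
    b ^ m * a * (b ^ m)⁻¹ = a ^ (j ^ m) := by
  induction m with
  | zero => simp
  | succ m ih =>
    rw [pow_succ' b m, show b * b ^ m * a * (b * b ^ m)⁻¹ = b * (b ^ m * a * (b ^ m)⁻¹) * b⁻¹ by group, ih,
      ← conj_pow, h, ← pow_mul, pow_succ']

theorem exists_four_pow : ∀ j : ZMod 11, j ^ 5 = 1 → j ≠ 1 → ∃ m : Fin 5, j ^ m.val = 4 := by decide

/-- Generators: an element of order 11, one of order 5 acting on it as the fourth power, and one of
order dividing 4 squaring the latter. -/
theorem exists_abc (hn : Nat.card G = 7920) :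
    ∃ a b c : G, orderOf a = 11 ∧ orderOf b = 5 ∧ b * a * b⁻¹ = a ^ 4 ∧ c ^ 4 = 1 ∧
      c * b * c⁻¹ = b ^ 2 := by
  classical
  haveI : Fact (Nat.Prime 5) := ⟨by norm_num⟩
  haveI : Fact (Nat.Prime 11) := ⟨by norm_num⟩
  obtain ⟨⟨T, -, -, hsyl⟩, P₅, hP₅, hC₅⟩ := local_7920 (G := G) hn
  -- an element of order 5 normalizing a subgroup of order 11
  set N := Subgroup.normalizer ((T.P : Subgroup G) : Set G) with hN
  have hN55 : Nat.card N = 55 := by
    have h := Subgroup.card_mul_index N
    rw [show N.index = 144 from (Sylow.card_eq_index_normalizer T.P).symm.trans hsyl, hn] at h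
    omega
  obtain ⟨b₀, hb₀⟩ := exists_prime_orderOf_dvd_card' 5 (show 5 ∣ Nat.card N by rw [hN55]; norm_num)
  have hb₀o : orderOf (b₀ : G) = 5 := by rw [Subgroup.orderOf_coe, hb₀]
  obtain ⟨a₀, ha₀⟩ := exists_prime_orderOf_dvd_card' 11
    (show 11 ∣ Nat.card (T.P : Subgroup G) by rw [T.card_P])
  have ha₀o : orderOf (a₀ : G) = 11 := by rw [Subgroup.orderOf_coe, ha₀]
  have hzp : Subgroup.zpowers (a₀ : G) = (T.P : Subgroup G) :=
    Subgroup.eq_of_le_of_card_ge (Subgroup.zpowers_le.mpr a₀.2)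
      (by rw [Nat.card_zpowers, ha₀o, T.card_P])
  obtain ⟨j, hj⟩ : ∃ j : ℕ, (b₀ : G) * a₀ * (b₀ : G)⁻¹ = (a₀ : G) ^ j := by
    have h1 : (b₀ : G) * a₀ * (b₀ : G)⁻¹ ∈ Subgroup.zpowers (a₀ : G) := by
      rw [hzp]; exact (Subgroup.mem_normalizer_iff.mp b₀.2 _).mp a₀.2
    obtain ⟨j, hj⟩ := (mem_powers_iff_mem_zpowers.mpr h1 : _ ∈ Submonoid.powers (a₀ : G))
    exact ⟨j, hj.symm⟩
  have hb5 : (b₀ : G) ^ 5 = 1 := by rw [← hb₀o, pow_orderOf_eq_one]
  have hcast : ∀ k l : ℕ, (a₀ : G) ^ k = (a₀ : G) ^ l → (k : ZMod 11) = (l : ZMod 11) := by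
    intro k l h
    rw [pow_eq_pow_iff_modEq, ha₀o] at h
    exact (ZMod.natCast_eq_natCast_iff k l 11).mpr h
  have hj5 : (j : ZMod 11) ^ 5 = 1 := by
    have h := conj_pow_iter hj 5
    rw [hb5] at h
    simp only [one_mul, inv_one, mul_one] at h
    have := hcast 1 (j ^ 5) (by rw [pow_one]; exact h)
    push_cast at this
    exact this.symm
  have hj1 : (j : ZMod 11) ≠ 1 := by
    intro h
    have h' : (a₀ : G) ^ j = a₀ := by
      conv_rhs => rw [← pow_one (a₀ : G)]
      rw [pow_eq_pow_iff_modEq, ha₀o]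
      exact (ZMod.natCast_eq_natCast_iff j 1 11).mp (by rw [h, Nat.cast_one])
    rw [h'] at hj
    have hmem : (b₀ : G) ∈ Subgroup.centralizer ((T.P : Subgroup G) : Set G) := by
      rw [Subgroup.mem_centralizer_iff]
      intro y hy
      rw [← hzp] at hy
      obtain ⟨i, rfl⟩ := Subgroup.mem_zpowers_iff.mp hy
      have hc : Commute (b₀ : G) (a₀ : G) := mul_inv_eq_iff_eq_mul.mp hj
      exact (hc.zpow_right i).symm.eq
    have := Subgroup.orderOf_dvd_natCard _ hmem
    rw [hb₀o, T.card_C] at this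
    norm_num at this
  obtain ⟨m, hm⟩ := exists_four_pow _ hj5 hj1
  have hmne : m.val ≠ 0 := fun h => by rw [h, pow_zero] at hm; exact (show ((1 : ℕ) : ZMod 11) ≠ ((4 : ℕ) : ZMod 11) by rw [Ne, ZMod.natCast_eq_natCast_iff]; decide) (by simpa using hm)
  set b₁ := (b₀ : G) ^ m.val with hb₁
  have hb₁o : orderOf b₁ = 5 := by
    refine orderOf_eq_prime (by rw [hb₁, ← pow_mul, mul_comm, pow_mul, hb5, one_pow]) fun h => ?_
    have hd := orderOf_dvd_of_pow_eq_one h
    rw [hb₀o] at hd
    have := Nat.le_of_dvd (Nat.pos_of_ne_zero hmne) hd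
    have := m.isLt
    omega
  have hrel : b₁ * a₀ * b₁⁻¹ = (a₀ : G) ^ 4 := by
    rw [hb₁, conj_pow_iter hj, pow_eq_pow_iff_modEq, ha₀o]
    exact (ZMod.natCast_eq_natCast_iff _ _ 11).mp (by push_cast; exact hm)
  -- move it into the Sylow 5-subgroup
  obtain ⟨Q, hQ⟩ := (IsPGroup.of_card (p := 5) (n := 1)
    (by rw [Nat.card_zpowers, hb₁o, pow_one] : Nat.card (Subgroup.zpowers b₁) = 5 ^ 1)).exists_le_sylow
  obtain ⟨g, hg⟩ := MulAction.exists_smul_eq G Q P₅
  set b := g * b₁ * g⁻¹ with hb
  have hbo : orderOf b = 5 := (MulEquiv.orderOf_eq (MulAut.conj g) b₁).trans hb₁o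
  have hbP : b ∈ (P₅ : Subgroup G) := by
    rw [← hg, Sylow.coe_subgroup_smul]
    exact Subgroup.smul_mem_pointwise_smul _ (MulAut.conj g) _ (hQ (Subgroup.mem_zpowers _))
  have hzb : Subgroup.zpowers b = (P₅ : Subgroup G) :=
    Subgroup.eq_of_le_of_card_ge (Subgroup.zpowers_le.mpr hbP) (by rw [Nat.card_zpowers, hbo, hP₅])
  have hcomm : ∀ x, x * b = b * x → x ∈ (P₅ : Subgroup G) := by
    intro x hx
    have hC : (P₅ : Subgroup G) = Subgroup.centralizer ((P₅ : Subgroup G) : Set G) := by
      refine Subgroup.eq_of_le_of_card_ge ?_ (by rw [hC₅, hP₅])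
      intro y hy
      rw [← hzb] at hy ⊢
      obtain ⟨i, rfl⟩ := Subgroup.mem_zpowers_iff.mp hy
      refine Subgroup.mem_centralizer_iff.mpr fun z hz => ?_
      obtain ⟨k, rfl⟩ := Subgroup.mem_zpowers_iff.mp hz
      exact ((Commute.refl b).zpow_zpow k i).eq
    rw [hC, Subgroup.mem_centralizer_iff]
    intro y hy
    rw [← hzb] at hy
    obtain ⟨i, rfl⟩ := Subgroup.mem_zpowers_iff.mp hy
    exact ((show Commute x b from hx).zpow_right i).symm.eq
  set M := Subgroup.normalizer ((P₅ : Subgroup G) : Set G) with hM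
  have hM20 : Nat.card M = 20 := by
    have hidx : Nat.card M * Nat.card (Sylow 5 G) = 7920 := by
      rw [Sylow.card_eq_index_normalizer P₅]; exact (Subgroup.card_mul_index M).trans hn
    have hmod : Nat.card (Sylow 5 G) % 5 = 1 := card_sylow_modEq_one 5 G
    have h5 : 5 ∣ Nat.card M := hP₅ ▸ Subgroup.card_dvd_of_le Subgroup.le_normalizer
    obtain ⟨k, hk⟩ := h5
    have hle : k ≤ 4 := by
      have hb' : ∀ x : M, ∃ i : Fin 5, (x : G) * b * (x : G)⁻¹ = b ^ i.val ∧ i.val ≠ 0 := by
        intro x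
        have h1 : (x : G) * b * (x : G)⁻¹ ∈ Subgroup.zpowers b := by
          rw [hzb]; exact (Subgroup.mem_normalizer_iff.mp x.2 _).mp hbP
        obtain ⟨i, hi⟩ := (mem_powers_iff_mem_zpowers.mpr h1 : _ ∈ Submonoid.powers b)
        refine ⟨⟨i % 5, Nat.mod_lt _ (by norm_num)⟩, ?_, ?_⟩
        · show _ = b ^ (i % 5)
          have e := pow_mod_orderOf b i
          rw [hbo] at e
          exact hi.symm.trans e.symm
        · intro h0
          simp only at h0
          have h1 : (x : G) * b * (x : G)⁻¹ = 1 := by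
            have e := pow_mod_orderOf b i
            rw [hbo, h0, pow_zero] at e
            exact hi.symm.trans e.symm
          rw [conj_eq_one_iff] at h1
          rw [h1, orderOf_one] at hbo; omega
      choose f hf hf0 using hb'
      have hle' := Finset.card_le_mul_card_image (f := f) (Finset.univ : Finset M) 5 (by
        intro i hi
        obtain ⟨x, -, hx⟩ := Finset.mem_image.mp hi
        have : Finset.card (Finset.univ.filter fun y : M => f y = i) ≤ Fintype.card (P₅ : Subgroup G) := by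
          refine Finset.card_le_card_of_injOn (t := Finset.univ)
            (fun y => if h : ((x : G)⁻¹ * y) ∈ (P₅ : Subgroup G) then (⟨_, h⟩ : (P₅ : Subgroup G)) else 1)
            (fun y _ => Finset.mem_univ _) fun y hy z hz hyz => ?_
          have hmem : ∀ y : M, f y = i → (x : G)⁻¹ * (y : G) ∈ (P₅ : Subgroup G) := by
            intro y hy
            refine hcomm _ ?_
            have h1 := hf x
            rw [hx, ← hy, ← hf y] at h1
            calc (x : G)⁻¹ * y * b = (x : G)⁻¹ * ((y : G) * b * (y : G)⁻¹) * y := by group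
              _ = (x : G)⁻¹ * ((x : G) * b * (x : G)⁻¹) * y := by rw [h1]
              _ = b * ((x : G)⁻¹ * y) := by group
          simp only [Finset.coe_filter, Set.mem_setOf_eq] at hy hz
          simp only [dif_pos (hmem y hy.2), dif_pos (hmem z hz.2)] at hyz
          exact Subtype.ext (mul_left_cancel (congrArg Subtype.val hyz))
        exact this.trans (by rw [← Nat.card_eq_fintype_card, hP₅]))
      have himg : (Finset.univ.image f).card ≤ ((Finset.univ : Finset (Fin 5)).erase 0).card :=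
        Finset.card_le_card fun i hi => by
          obtain ⟨x, -, rfl⟩ := Finset.mem_image.mp hi
          exact Finset.mem_erase.mpr ⟨fun h => hf0 x (by rw [h]; rfl), Finset.mem_univ _⟩
      rw [Finset.card_univ, ← Nat.card_eq_fintype_card, hk] at hle'
      simp at himg
      omega
    have hk0 : k ≠ 0 := fun h => by rw [hk, h] at hidx; omega
    rcases (show k = 1 ∨ k = 2 ∨ k = 3 ∨ k = 4 by omega) with rfl | rfl | rfl | rfl <;>
      rw [hk] at hidx <;> omega
  -- an element inducing squaring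
  have hsq : ∃ x ∈ M, x * b * x⁻¹ = b ^ 2 := by
    by_contra! hno
    have hb' : ∀ x : M, (x : G) * b * (x : G)⁻¹ = b ∨ (x : G) * b * (x : G)⁻¹ = b ^ 4 := by
      intro x
      have h1 : (x : G) * b * (x : G)⁻¹ ∈ Subgroup.zpowers b := by
        rw [hzb]; exact (Subgroup.mem_normalizer_iff.mp x.2 _).mp hbP
      obtain ⟨i, hi⟩ := (mem_powers_iff_mem_zpowers.mpr h1 : _ ∈ Submonoid.powers b)
      have hi' : (x : G) * b * (x : G)⁻¹ = b ^ (i % 5) := by
        have e := pow_mod_orderOf b i
        rw [hbo] at e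
        exact hi.symm.trans e.symm
      have := Nat.mod_lt i (show 0 < 5 by norm_num)
      interval_cases h : i % 5
      · exfalso
        rw [pow_zero, conj_eq_one_iff] at hi'
        rw [hi', orderOf_one] at hbo; omega
      · exact Or.inl (by rw [hi', pow_one])
      · exact absurd hi' (hno x x.2)
      · exfalso
        refine hno ((x : G) ^ 3) (pow_mem x.2 3) ?_
        rw [conj_pow_iter hi' 3, show (3 : ℕ) ^ 3 = 5 * 5 + 2 by norm_num, pow_add, pow_mul,
          show b ^ 5 = 1 by rw [← hbo, pow_orderOf_eq_one], one_pow, one_mul]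
      · exact Or.inr hi'
    have hle := Finset.card_le_mul_card_image
      (f := fun x : M => decide ((x : G) * b * (x : G)⁻¹ = b)) (Finset.univ : Finset M) 5 (by
        intro i hi
        obtain ⟨x, -, hx⟩ := Finset.mem_image.mp hi
        have hmem : ∀ y : M, decide ((y : G) * b * (y : G)⁻¹ = b) = i →
            (x : G)⁻¹ * (y : G) ∈ (P₅ : Subgroup G) := by
          intro y hy
          refine hcomm _ ?_
          have h1 : (y : G) * b * (y : G)⁻¹ = (x : G) * b * (x : G)⁻¹ := by
            have hne : b ^ 4 ≠ b := fun h => by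
              have h3 : b ^ 3 = 1 := by
                have := congrArg (· * b⁻¹) h
                simpa [pow_succ, mul_assoc] using this
              have := orderOf_dvd_of_pow_eq_one h3
              rw [hbo] at this; norm_num at this
            rw [← hx, decide_eq_decide] at hy
            rcases hb' x with e | e <;> rcases hb' y with e' | e'
            · rw [e, e']
            · exact absurd (e'.symm.trans (hy.mpr e)) hne
            · exact absurd (e.symm.trans (hy.mp e')) hne
            · rw [e, e']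
          calc (x : G)⁻¹ * y * b = (x : G)⁻¹ * ((y : G) * b * (y : G)⁻¹) * y := by group
            _ = (x : G)⁻¹ * ((x : G) * b * (x : G)⁻¹) * y := by rw [h1]
            _ = b * ((x : G)⁻¹ * y) := by group
        refine le_trans (Finset.card_le_card_of_injOn (t := (Finset.univ : Finset (P₅ : Subgroup G)))
          (fun y => if h : ((x : G)⁻¹ * y) ∈ (P₅ : Subgroup G) then (⟨_, h⟩ : (P₅ : Subgroup G)) else 1)
          (fun y _ => Finset.mem_univ _) fun y hy z hz hyz => ?_) (by
            rw [Finset.card_univ, ← Nat.card_eq_fintype_card, hP₅])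
        simp only [Finset.coe_filter, Set.mem_setOf_eq] at hy hz
        simp only [dif_pos (hmem y hy.2), dif_pos (hmem z hz.2)] at hyz
        exact Subtype.ext (mul_left_cancel (congrArg Subtype.val hyz)))
    have := Finset.card_le_univ (Finset.univ.image fun x : M => decide ((x : G) * b * (x : G)⁻¹ = b))
    rw [Finset.card_univ, ← Nat.card_eq_fintype_card, hM20] at hle
    simp at this
    omega
  obtain ⟨c, -, hc⟩ := hsq
  refine ⟨g * a₀ * g⁻¹, b, c, (MulEquiv.orderOf_eq (MulAut.conj g) _).trans ha₀o, hbo, ?_, ?_, hc⟩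
  · rw [hb, show g * b₁ * g⁻¹ * (g * a₀ * g⁻¹) * (g * b₁ * g⁻¹)⁻¹ = g * (b₁ * a₀ * b₁⁻¹) * g⁻¹ by group,
      hrel, conj_pow]
  · have h4 := conj_pow_iter hc 4
    have hb16 : b ^ (2 ^ 4) = b := by
      rw [show (2 : ℕ) ^ 4 = 5 * 3 + 1 by norm_num, pow_succ, pow_mul,
        show b ^ 5 = 1 by rw [← hbo, pow_orderOf_eq_one], one_pow, one_mul]
    rw [hb16] at h4
    have hmem := hcomm _ (mul_inv_eq_iff_eq_mul.mp h4)
    rw [← hzb] at hmem
    obtain ⟨i, hi⟩ := Subgroup.mem_zpowers_iff.mp hmem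
    have h1 : c * b ^ i * c⁻¹ = b ^ i := by rw [hi]; group
    rw [← conj_zpow, hc, ← zpow_natCast, ← zpow_mul, show ((2 : ℕ) : ℤ) * i = i + i by push_cast; ring,
      zpow_add] at h1
    rw [← hi]
    exact mul_left_cancel (h1.trans (mul_one _).symm)

/-- **A simple group of order 7920 with a subgroup of index 11 is the model group.** -/
theorem nonempty_equiv_model (hn : Nat.card G = 7920) (H : Subgroup G) (hH : H.index = 11) :
    Nonempty (G ≃* model) := by
  classical
  haveI : Fact (Nat.Prime 11) := ⟨by norm_num⟩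
  haveI : Fact (Nat.Prime 5) := ⟨by norm_num⟩
  obtain ⟨a, b, c, hao, hbo, hab, hc4, hcb⟩ := exists_abc hn
  have hne : H ≠ ⊤ := fun h => by rw [h, Subgroup.index_top] at hH; norm_num at hH
  let e : G ⧸ H ≃ Fin 11 := Finite.equivFinOfCardEq ((Subgroup.index_eq_card H).symm.trans hH)
  let φ₀ : G →* Equiv.Perm (Fin 11) := e.permCongrHom.toMonoidHom.comp (MulAction.toPermHom G (G ⧸ H))
  have hinj₀ : Function.Injective φ₀ :=
    e.permCongrHom.injective.comp (SmallOrder.toPermHom_injective hne)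
  set σ := φ₀ a with hσdef
  have hσo : orderOf σ = 11 := (orderOf_injective φ₀ hinj₀ a).trans hao
  obtain ⟨x₀, hx₀⟩ := Equiv.Perm.exists_fixed_point_of_prime (p := 5) (n := 1) (σ := φ₀ b)
    (by simp) (by rw [← map_pow, show b ^ 5 ^ 1 = 1 by rw [pow_one, ← hbo, pow_orderOf_eq_one], map_one])
  have hmove : ∀ k : ℕ, ¬ 11 ∣ k → ∀ y, (σ ^ k) y ≠ y := by
    intro k hk y hy
    have ho : orderOf (σ ^ k) = 11 := by
      rw [orderOf_pow, hσo, Nat.Coprime.gcd_eq_one ((Nat.Prime.coprime_iff_not_dvd (by norm_num)).mpr hk),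
        Nat.div_one]
    have hcyc := Equiv.Perm.isCycle_of_prime_order'' (σ := σ ^ k) (by simp; norm_num) (by rw [ho]; simp)
    have hsupp : (σ ^ k).support = Finset.univ := by
      refine Finset.eq_univ_of_card _ ?_
      rw [← hcyc.orderOf, ho]; simp
    have := (Finset.eq_univ_iff_forall.mp hsupp) y
    rw [Equiv.Perm.mem_support] at this
    exact this hy
  let L : Fin 11 → Fin 11 := fun i => (σ ^ i.val) x₀
  have hLinj : Function.Injective L := by
    intro i j hij
    by_contra hne'
    have key : ∀ p q : Fin 11, p.val < q.val → L p ≠ L q := by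
      intro p q hpq heq
      refine hmove (q.val - p.val) (fun hd => ?_) ((σ ^ p.val) x₀) ?_
      · have := Nat.le_of_dvd (by omega) hd
        have := q.isLt
        omega
      · rw [← Equiv.Perm.mul_apply, ← pow_add, Nat.sub_add_cancel hpq.le]
        exact heq.symm
    rcases lt_or_gt_of_ne (fun h => hne' (Fin.ext h) : i.val ≠ j.val) with h | h
    · exact key _ _ h hij
    · exact key _ _ h hij.symm
  let Le : Fin 11 ≃ Fin 11 := Equiv.ofBijective L ⟨hLinj, Finite.surjective_of_injective hLinj⟩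
  let φ : G →* Equiv.Perm (Fin 11) := (Le.symm.permCongrHom).toMonoidHom.comp φ₀
  have hinj : Function.Injective φ := Le.symm.permCongrHom.injective.comp hinj₀
  have hφ : ∀ g i, φ g i = Le.symm (φ₀ g (L i)) := fun g i => rfl
  have hLs : ∀ i, Le.symm (L i) = i := fun i => Le.symm_apply_apply i
  have hL : ∀ k : ℕ, ∀ i : Fin 11, k % 11 = i.val → (σ ^ k) x₀ = L i := by
    intro k i hk
    show _ = (σ ^ i.val) x₀
    rw [← hk]
    have e := pow_mod_orderOf σ k
    rw [hσo] at e
    rw [e]
  have ha : φ a = aP := by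
    refine Equiv.ext fun i => ?_
    rw [hφ]
    show Le.symm (σ ((σ ^ i.val) x₀)) = i + 1
    rw [← Equiv.Perm.mul_apply σ, ← pow_succ', hL (i.val + 1) (i + 1) (by rw [Fin.val_add]; rfl), hLs]
  have hb : φ b = bP := by
    refine Equiv.ext fun i => ?_
    rw [hφ]
    show Le.symm (φ₀ b ((σ ^ i.val) x₀)) = 4 * i
    have h1 : φ₀ b * σ ^ i.val = σ ^ (4 * i.val) * φ₀ b := by
      rw [hσdef, ← map_pow, ← map_pow, ← map_mul, ← map_mul, pow_mul, ← hab, conj_pow]
      congr 1
      group
    rw [← Equiv.Perm.mul_apply (φ₀ b), h1, Equiv.Perm.mul_apply, hx₀,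
      hL (4 * i.val) (4 * i) (by rw [Fin.val_mul]; rfl), hLs]
  set γ := φ c with hγ
  have hγb : ∀ i, γ (4 * i) = 5 * γ i := by
    intro i
    have h1 : γ * bP = bP ^ 2 * γ := by
      rw [hγ, ← hb, ← map_pow, ← map_mul, ← map_mul, ← hcb]
      congr 1
      group
    have h2 := Equiv.ext_iff.mp h1 i
    have e16 : ∀ x : Fin 11, (bP ^ 2) x = 5 * x := by decide
    rw [Equiv.Perm.mul_apply, Equiv.Perm.mul_apply, e16] at h2
    exact h2
  have hγ0 : γ 0 = 0 := by
    have h := hγb 0
    rw [mul_zero] at h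
    exact (by decide : ∀ x : Fin 11, x = 5 * x → x = 0) _ h
  have hfun := eq_cF (⇑γ) hγ0 hγb
  have hnoseven : ∀ w : G, ∀ i, period7 (⇑(φ w)) i = false := by
    intro w i
    by_contra hper
    rw [Bool.not_eq_false] at hper
    simp only [period7, Bool.and_eq_true, beq_iff_eq, Bool.not_eq_true', beq_eq_false_iff_ne] at hper
    have h7 : Function.minimalPeriod (⇑(φ w)) i = 7 :=
      Function.minimalPeriod_eq_prime_iff (hp := ⟨by norm_num⟩) |>.mpr ⟨hper.1, hper.2⟩
    have hd : (φ w) ^ 7920 = 1 := by rw [← map_pow, ← hn, pow_card_eq_one', map_one]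
    have : Function.IsPeriodicPt (⇑(φ w)) 7920 i := by
      show (⇑(φ w))^[7920] i = i
      rw [← Equiv.Perm.coe_pow, hd]; rfl
    have := this.minimalPeriod_dvd
    rw [h7] at this
    norm_num at this
  have hmodel : ∃ f : G →* Equiv.Perm (Fin 11), Function.Injective f ∧ model ≤ f.range := by
    rcases key_search (γ 1) (γ 2) (hfun ▸ γ.injective) with ⟨m, hm | hm⟩ | ⟨k, i, hki⟩ | ⟨k, i, hki⟩
    · refine ⟨φ, hinj, (Subgroup.closure_le _).mpr ?_⟩
      rintro x (rfl | rfl | rfl)
      · exact ⟨a, ha⟩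
      · exact ⟨b, hb⟩
      · refine ⟨(b ^ m.val)⁻¹ * c, ?_⟩
        rw [map_mul, map_inv, map_pow, hb, ← hγ, inv_mul_eq_iff_eq_mul]
        refine Equiv.ext fun y => ?_
        rw [Equiv.Perm.mul_apply, Equiv.Perm.coe_pow, hfun, hm]
        rfl
    · refine ⟨(MulAut.conj nP).toMonoidHom.comp φ, (MulAut.conj nP).injective.comp hinj,
        (Subgroup.closure_le _).mpr ?_⟩
      rintro x (rfl | rfl | rfl)
      · refine ⟨a⁻¹, ?_⟩
        show nP * φ a⁻¹ * nP⁻¹ = aP
        rw [map_inv, ha, ← conj_inv, nP_conj_aP, inv_inv]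
      · refine ⟨b, ?_⟩
        show nP * φ b * nP⁻¹ = bP
        rw [hb, nP_conj_bP]
      · refine ⟨(b ^ m.val)⁻¹ * c, ?_⟩
        show nP * φ ((b ^ m.val)⁻¹ * c) * nP⁻¹ = cP
        have hγ' : γ = nP * (bP ^ m.val * cP) * nP := Equiv.ext fun y => by
          rw [Equiv.Perm.mul_apply, Equiv.Perm.mul_apply, Equiv.Perm.mul_apply, Equiv.Perm.coe_pow, hfun, hm]
          rfl
        have hcn : Commute nP (bP ^ m.val) := Commute.pow_right (mul_inv_eq_iff_eq_mul.mp nP_conj_bP) _
        have hnn : nP⁻¹ = nP := inv_eq_of_mul_eq_one_right nP_mul_self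
        rw [map_mul, map_inv, map_pow, hb, ← hγ, hγ',
          show nP * ((bP ^ m.val)⁻¹ * (nP * (bP ^ m.val * cP) * nP)) * nP⁻¹ =
            nP * (bP ^ m.val)⁻¹ * nP * bP ^ m.val * cP * (nP * nP⁻¹) by group,
          hcn.inv_right.eq, show (bP ^ m.val)⁻¹ * nP * nP * bP ^ m.val * cP * (nP * nP⁻¹) =
            (bP ^ m.val)⁻¹ * (nP * nP) * bP ^ m.val * cP by group, nP_mul_self]
        group
    · exfalso
      have hwd : ⇑(φ (a ^ k.val * c)) = word (cF (γ 1) (γ 2)) id k 0 := funext fun y => by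
        rw [map_mul, map_pow, ha, ← hγ, Equiv.Perm.mul_apply, word, id, add_zero, hfun]
        exact (by decide : ∀ k x : Fin 11, (aP ^ k.val) x = x + k) k _
      rw [← hwd, hnoseven] at hki
      exact Bool.false_ne_true hki
    · exfalso
      have hwd : ⇑(φ (a ^ k.val * c * (a * c))) = word (cF (γ 1) (γ 2)) (cF (γ 1) (γ 2)) k 1 :=
        funext fun y => by
          show _ = cF _ _ (cF _ _ y + 1) + k
          rw [← hfun]
          simp only [map_mul, map_pow, ha, ← hγ, Equiv.Perm.mul_apply]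
          exact (by decide : ∀ k x : Fin 11, (aP ^ k.val) x = x + k) k _
      rw [← hwd, hnoseven] at hki
      exact Bool.false_ne_true hki
  obtain ⟨f, hf, hle⟩ := hmodel
  have heq : model.comap f = ⊤ := by
    by_contra hne'
    have h11 := eleven_le_index hn hne'
    have hmul := Subgroup.card_mul_index (model.comap f)
    have hcard : Nat.card (model.comap f) = Nat.card model := by
      rw [Nat.card_congr (Subgroup.equivMapOfInjective (model.comap f) f hf).toEquiv, Subgroup.map_comap_eq_self hle]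
    rw [hcard, hn] at hmul
    obtain ⟨q, hq⟩ := dvd_card_model
    rw [hq] at hmul
    have hq0 : 0 < q := by
      rcases Nat.eq_zero_or_pos q with h | h
      · rw [h] at hmul; omega
      · exact h
    have : 1320 * 11 ≤ 1320 * q * (model.comap f).index := Nat.mul_le_mul (by omega) h11
    omega
  have hrange : f.range = model := by
    refine le_antisymm ?_ hle
    rintro _ ⟨x, rfl⟩
    exact (heq.ge (Subgroup.mem_top x) : x ∈ model.comap f)
  exact ⟨(MonoidHom.ofInjective hf).trans (MulEquiv.subgroupCongr hrange)⟩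

end CfsgLib.M11Unique
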