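import Cfsg.Agent.Lib.M11Unique.Suborbits
import Cfsg.Agent.Lib.M11Unique.Degree11

/-!
# The graph on 55 points is triangular: a simple group of order 7920 has a subgroup of index 11
-/

set_option autoImplicit false
set_option linter.style.haveILetI false

namespace CfsgLib.M11Unique

open scoped _root_.Classical

universe u

variable {G : Type u} [Group G] [Fintype G]

/-- the neighbours -/
noncomputable def nb (X : Sylow 3 G) : Finset (Sylow 3 G) := Finset.univ.filter (Adj X)

/-- the number of common neighbours -/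
noncomputable def com (X Y : Sylow 3 G) : ℕ := (nb X ∩ nb Y).card

theorem mem_nb {X Y : Sylow 3 G} : Y ∈ nb X ↔ Adj X Y := by simp [nb]

theorem com_smul (g : G) (X Y : Sylow 3 G) : com (g • X) (g • Y) = com X Y := by
  rw [com, com, ← Finset.card_image_of_injective (nb X ∩ nb Y) (MulAction.injective g)]
  congr 1
  ext W
  simp only [Finset.mem_inter, Finset.mem_image, mem_nb]
  constructor
  · rintro ⟨h1, h2⟩
    exact ⟨g⁻¹ • W, ⟨by rwa [← adj_smul g, smul_inv_smul], by rwa [← adj_smul g, smul_inv_smul]⟩,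
      smul_inv_smul g W⟩
  · rintro ⟨V, ⟨h1, h2⟩, rfl⟩
    exact ⟨(adj_smul g X V).mpr h1, (adj_smul g Y V).mpr h2⟩

theorem trace_contra : (6 : ZMod 7) * 6 = 0 → False := by decide

namespace Suborbits

variable (Sb : Suborbits G)

local notation "PP" => (Sb.P : Subgroup G)

omit [Fintype G] in
theorem conj_mem {g u : G} (hg : g • Sb.P = Sb.P) (hu : u ∈ PP) : g * u * g⁻¹ ∈ PP :=
  (congrArg (fun A : Sylow 3 G => (A : Subgroup G)) hg) ▸ mem_smul_sylow hu

/-- the orbit of `Q` under `P` -/
noncomputable def O : Finset (Sylow 3 G) := (Finset.univ : Finset ↥(Sb.P : Subgroup G)).image fun (u : ↥(Sb.P : Subgroup G)) => (u : G) • Sb.Q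

/-- the orbit of `Q'` under `P` -/
noncomputable def O' : Finset (Sylow 3 G) := (Finset.univ : Finset ↥(Sb.P : Subgroup G)).image fun (u : ↥(Sb.P : Subgroup G)) => (u : G) • Sb.Q'

theorem mem_O {X : Sylow 3 G} : X ∈ Sb.O ↔ ∃ u ∈ PP, X = u • Sb.Q := by
  simp [O, eq_comm]

theorem mem_O' {X : Sylow 3 G} : X ∈ Sb.O' ↔ ∃ u ∈ PP, X = u • Sb.Q' := by
  simp [O', eq_comm]

theorem card_O : Sb.O.card = 9 := by
  rw [O, Finset.card_image_of_injective _ fun u v h => Subtype.ext (Sb.inj_Q u u.2 v v.2 h),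
    Finset.card_univ, ← Nat.card_eq_fintype_card, Sb.card_P]

theorem card_O' : Sb.O'.card = 9 := by
  rw [O', Finset.card_image_of_injective _ fun u v h => Subtype.ext (Sb.inj_Q' u u.2 v v.2 h),
    Finset.card_univ, ← Nat.card_eq_fintype_card, Sb.card_P]

theorem disjoint_O : Disjoint Sb.O Sb.O' := by
  rw [Finset.disjoint_left]
  intro X h h'
  obtain ⟨u, hu, rfl⟩ := Sb.mem_O.mp h
  obtain ⟨v, hv, he⟩ := Sb.mem_O'.mp h'
  exact Sb.disjoint u hu v hv he

theorem nb_P : nb Sb.P = Sb.O ∪ Sb.O' := by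
  ext X
  rw [mem_nb, Sb.adj_iff, Finset.mem_union, Sb.mem_O, Sb.mem_O']
  exact ⟨fun ⟨u, hu, h⟩ => h.imp (fun h => ⟨u, hu, h⟩) (fun h => ⟨u, hu, h⟩),
    fun h => h.elim (fun ⟨u, hu, h⟩ => ⟨u, hu, Or.inl h⟩) (fun ⟨u, hu, h⟩ => ⟨u, hu, Or.inr h⟩)⟩

include Sb in
theorem card_nb (X : Sylow 3 G) : (nb X).card = 18 := by
  obtain ⟨g, rfl⟩ := MulAction.exists_smul_eq G Sb.P X
  have h : com (g • Sb.P) (g • Sb.P) = com Sb.P Sb.P := com_smul g Sb.P Sb.P
  rw [com, com, Finset.inter_self, Finset.inter_self] at h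
  rw [h, nb_P, Finset.card_union_of_disjoint Sb.disjoint_O, card_O, card_O']

theorem com_adj {X Y : Sylow 3 G} (h : Adj X Y) : com X Y = com Sb.P Sb.Q := by
  obtain ⟨g, hg⟩ := MulAction.exists_smul_eq G X Sb.P
  rw [← com_smul g X Y, hg]
  have h' : Adj Sb.P (g • Y) := by rwa [← hg, adj_smul]
  obtain ⟨x, hxP, hxQ, -⟩ := Sb.swap
  obtain ⟨u, hu, e | e⟩ := (Sb.adj_iff _).mp h'
  · rw [e]
    conv_lhs => rw [← Sb.smul_P u hu]
    exact com_smul u _ _
  · rw [e]
    conv_lhs => rw [← Sb.smul_P u hu]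
    rw [com_smul, ← hxQ]
    conv_lhs => rw [← hxP]
    exact com_smul x _ _

theorem com_far {X Y : Sylow 3 G} (hne : X ≠ Y) (h : ¬ Adj X Y) : com X Y = com Sb.P Sb.R := by
  obtain ⟨g, hg⟩ := MulAction.exists_smul_eq G X Sb.P
  rw [← com_smul g X Y, hg]
  have hne' : g • Y ≠ Sb.P := fun e => hne (smul_left_cancel g (hg.trans e.symm))
  rcases Sb.adj_cases _ hne' with h' | ⟨n, hn, e⟩
  · rw [← hg, adj_smul] at h'
    exact absurd h' h
  · rw [e]
    conv_lhs => rw [← hn]
    exact com_smul n _ _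

theorem row_sum : 18 + 18 * com Sb.P Sb.Q + 36 * com Sb.P Sb.R = 324 := by
  have hL : ∑ Y, com Sb.P Y = 324 := by
    have e : ∀ Y, com Sb.P Y = ∑ W ∈ nb Sb.P, if Adj W Y then 1 else 0 := by
      intro Y
      rw [com, ← Finset.card_filter]
      congr 1
      ext W
      simp only [Finset.mem_inter, Finset.mem_filter, mem_nb]
      exact and_congr_right fun _ => ⟨adj_symm, adj_symm⟩
    simp only [e]
    rw [Finset.sum_comm, Finset.sum_congr rfl (g := fun _ => 18) fun W _ => by
      rw [← Finset.card_filter]; exact Sb.card_nb W]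
    simp [Sb.card_nb]
  rw [← hL, ← Finset.add_sum_erase _ _ (Finset.mem_univ Sb.P),
    ← Finset.sum_filter_add_sum_filter_not (Finset.univ.erase Sb.P) (Adj Sb.P)]
  have h1 : (Finset.univ.erase Sb.P).filter (Adj Sb.P) = nb Sb.P := by
    ext W
    simp only [Finset.mem_filter, Finset.mem_erase, Finset.mem_univ, and_true, mem_nb]
    exact ⟨fun h => h.2, fun h => ⟨h.1.symm, h⟩⟩
  have h2 : ((Finset.univ.erase Sb.P).filter fun Y => ¬ Adj Sb.P Y).card = 36 := by
    have h := Finset.card_filter_add_card_filter_not (s := Finset.univ.erase Sb.P) (Adj Sb.P)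
    rw [h1, Sb.card_nb, Finset.card_erase_of_mem (Finset.mem_univ _), Finset.card_univ,
      ← Nat.card_eq_fintype_card, Sb.card_sylow] at h
    omega
  rw [h1, Finset.sum_congr rfl (g := fun _ => com Sb.P Sb.Q) fun W hW => Sb.com_adj (mem_nb.mp hW),
    Finset.sum_congr rfl (g := fun _ => com Sb.P Sb.R) fun W hW => Sb.com_far
      (Finset.ne_of_mem_erase (Finset.mem_filter.mp hW).1).symm (Finset.mem_filter.mp hW).2,
    Finset.sum_const, Finset.sum_const, h2, Sb.card_nb]
  have hPP : com Sb.P Sb.P = 18 := by rw [com, Finset.inter_self, Sb.card_nb]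
  rw [hPP, smul_eq_mul, smul_eq_mul]
  omega

omit [Fintype G] in
theorem conj_smul_eq {d u : G} {X : Sylow 3 G} (hd : d • X = X) : d • u • X = (d * u * d⁻¹) • X := by
  conv_rhs => rw [← hd]
  simp [← mul_smul, mul_assoc]

omit [Fintype G] in
theorem adj_const_Q {u v : G} (hu : u ∈ PP) (hu1 : u ≠ 1) (hv : v ∈ PP) (hv1 : v ≠ 1) :
    Adj Sb.Q (u • Sb.Q) ↔ Adj Sb.Q (v • Sb.Q) := by
  obtain ⟨d, -, hdQ, -, rfl⟩ := Sb.transitive u hu hu1 v hv hv1
  rw [← conj_smul_eq hdQ, ← adj_smul d Sb.Q (u • Sb.Q), hdQ]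

omit [Fintype G] in
theorem adj_const_Q' {u v : G} (hu : u ∈ PP) (hu1 : u ≠ 1) (hv : v ∈ PP) (hv1 : v ≠ 1) :
    Adj Sb.Q (u • Sb.Q') ↔ Adj Sb.Q (v • Sb.Q') := by
  obtain ⟨d, -, hdQ, hdQ', rfl⟩ := Sb.transitive u hu hu1 v hv hv1
  rw [← conj_smul_eq hdQ', ← adj_smul d Sb.Q (u • Sb.Q'), hdQ]

omit [Fintype G] in
theorem adj_Q'_iff {u : G} (hu : u ∈ PP) : ∀ w : G, w • Sb.P = Sb.P → w • Sb.Q' = Sb.Q →
    (Adj Sb.Q' (u • Sb.Q') ↔ Adj Sb.Q ((w * u * w⁻¹) • Sb.Q)) ∧ w * u * w⁻¹ ∈ PP := by
  intro w hwP hwQ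
  refine ⟨?_, Sb.conj_mem hwP hu⟩
  rw [← adj_smul w, hwQ, mul_smul, mul_smul, inv_smul_eq_iff.mpr hwQ.symm]

include Sb in
theorem exists_index_eleven [IsSimpleGroup G] (hn : Nat.card G = 7920) :
    ∃ H : Subgroup G, H.index = 11 := by
  haveI : Fact (Nat.Prime 7) := ⟨by norm_num⟩
  obtain ⟨u₀, hu₀, hu₀1⟩ : ∃ u ∈ PP, u ≠ 1 := by
    by_contra! h
    have := Sb.card_P
    rw [(Subgroup.eq_bot_iff_forall _).mpr h, Subgroup.card_bot] at this
    norm_num at this
  obtain ⟨x, hxP, hxQ, hxQ'⟩ := Sb.swap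
  have hPQ : Adj Sb.P Sb.Q := (Sb.adj_iff _).mpr ⟨1, one_mem _, Or.inl (one_smul _ _).symm⟩
  have hrow := Sb.row_sum
  -- within and between the two orbits
  have hOc : (Sb.O.filter (Adj Sb.Q)).card = if Adj Sb.Q (u₀ • Sb.Q) then 8 else 0 := by
    split_ifs with ha
    · have : Sb.O.filter (Adj Sb.Q) = Sb.O.erase Sb.Q := by
        ext X
        rw [Finset.mem_filter, Finset.mem_erase]
        refine ⟨fun h => ⟨h.2.1.symm, h.1⟩, fun ⟨h1, h2⟩ => ⟨h2, ?_⟩⟩
        obtain ⟨u, hu, rfl⟩ := Sb.mem_O.mp h2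
        exact (Sb.adj_const_Q hu₀ hu₀1 hu (fun e => h1 (by rw [e, one_smul]))).mp ha
      rw [this, Finset.card_erase_of_mem (Sb.mem_O.mpr ⟨1, one_mem _, (one_smul _ _).symm⟩), Sb.card_O]
    · rw [Finset.card_eq_zero, Finset.filter_eq_empty_iff]
      intro X hX hadj
      obtain ⟨u, hu, rfl⟩ := Sb.mem_O.mp hX
      exact ha ((Sb.adj_const_Q hu (fun e => hadj.1 (by rw [e, one_smul])) hu₀ hu₀1).mp hadj)
  have hO'c : (Sb.O'.filter (Adj Sb.Q)).card = if Adj Sb.Q (u₀ • Sb.Q') then 9 else 1 := by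
    split_ifs with hb
    · have : Sb.O'.filter (Adj Sb.Q) = Sb.O' := by
        refine Finset.filter_true_of_mem fun X hX => ?_
        obtain ⟨u, hu, rfl⟩ := Sb.mem_O'.mp hX
        by_cases h1 : u = 1
        · rw [h1, one_smul]; exact Sb.adj_QQ'
        · exact (Sb.adj_const_Q' hu₀ hu₀1 hu h1).mp hb
      rw [this, Sb.card_O']
    · have : Sb.O'.filter (Adj Sb.Q) = {Sb.Q'} := by
        ext X
        rw [Finset.mem_filter, Finset.mem_singleton]
        constructor
        · rintro ⟨hX, hadj⟩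
          obtain ⟨u, hu, rfl⟩ := Sb.mem_O'.mp hX
          by_cases h1 : u = 1
          · rw [h1, one_smul]
          · exact absurd ((Sb.adj_const_Q' hu h1 hu₀ hu₀1).mp hadj) hb
        · rintro rfl
          exact ⟨Sb.mem_O'.mpr ⟨1, one_mem _, (one_smul _ _).symm⟩, Sb.adj_QQ'⟩
      rw [this, Finset.card_singleton]
  have hlam : com Sb.P Sb.Q = (Sb.O.filter (Adj Sb.Q)).card + (Sb.O'.filter (Adj Sb.Q)).card := by
    rw [com, Sb.nb_P, ← Finset.card_union_of_disjoint (Finset.disjoint_filter_filter Sb.disjoint_O),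
      ← Finset.filter_union]
    congr 1
    ext X
    simp [mem_nb]
  have hfarR : com Sb.P Sb.R = (17 - com Sb.P Sb.Q) / 2 := by omega
  by_cases ha : Adj Sb.Q (u₀ • Sb.Q) <;> by_cases hb : Adj Sb.Q (u₀ • Sb.Q')
  · -- a disjoint union of complete graphs
    exfalso
    rw [if_pos ha] at hOc; rw [if_pos hb] at hO'c
    have h17 : com Sb.P Sb.Q = 17 := by omega
    let K : Sylow 3 G → Finset (Sylow 3 G) := fun X => insert X (nb X)
    have hKc : ∀ X, (K X).card = 19 := fun X => by
      rw [Finset.card_insert_of_notMem (fun h => (mem_nb.mp h).1 rfl), Sb.card_nb]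
    have hK : ∀ X Y, Adj X Y → K X ⊆ K Y := by
      intro X Y h W hW
      have hsub : (nb X).erase Y = nb X ∩ nb Y := by
        refine (Finset.eq_of_subset_of_card_le (fun V hV => ?_) ?_).symm
        · rw [Finset.mem_inter] at hV
          exact Finset.mem_erase.mpr ⟨fun e => (mem_nb.mp hV.2).1 e.symm, hV.1⟩
        · rw [Finset.card_erase_of_mem (mem_nb.mpr h), Sb.card_nb]
          have := Sb.com_adj h
          rw [com, h17] at this
          omega
      rcases Finset.mem_insert.mp hW with rfl | hW'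
      · exact Finset.mem_insert_of_mem (mem_nb.mpr (adj_symm h))
      · by_cases hWY : W = Y
        · exact Finset.mem_insert.mpr (Or.inl hWY)
        · exact Finset.mem_insert_of_mem (Finset.mem_inter.mp (hsub ▸ Finset.mem_erase.mpr ⟨hWY, hW'⟩)).2
    have hKeq : ∀ X Y, Y ∈ K X ↔ K Y = K X := by
      intro X Y
      refine ⟨fun h => ?_, fun h => h ▸ Finset.mem_insert_self _ _⟩
      rcases Finset.mem_insert.mp h with rfl | h'
      · rfl
      · exact Finset.Subset.antisymm (hK Y X (adj_symm (mem_nb.mp h'))) (hK X Y (mem_nb.mp h'))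
    have hcount := Finset.card_eq_sum_card_image K (Finset.univ : Finset (Sylow 3 G))
    rw [Finset.card_univ, ← Nat.card_eq_fintype_card, Sb.card_sylow,
      Finset.sum_congr rfl (g := fun _ => 19) fun B hB => by
        obtain ⟨X, -, rfl⟩ := Finset.mem_image.mp hB
        rw [show (Finset.univ.filter fun Y => K Y = K X) = K X by
          ext Y; simp [hKeq X Y], hKc], Finset.sum_const, smul_eq_mul] at hcount
    omega
  · -- the triangular graph
    rw [if_neg hb] at hO'c
    have hO : ∀ u ∈ PP, ∀ v ∈ PP, u ≠ v → Adj (u • Sb.Q) (v • Sb.Q) := by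
      intro u hu v hv huv
      rw [← adj_smul u⁻¹, inv_smul_smul, ← mul_smul]
      exact (Sb.adj_const_Q hu₀ hu₀1 (mul_mem (inv_mem hu) hv) (fun e => huv (inv_mul_eq_one.mp e))).mp ha
    have hO' : ∀ u ∈ PP, ∀ v ∈ PP, u ≠ v → Adj (u • Sb.Q') (v • Sb.Q') := by
      intro u hu v hv huv
      obtain ⟨h1, h2⟩ := Sb.adj_Q'_iff (mul_mem (inv_mem hu) hv) x hxP hxQ'
      rw [← adj_smul u⁻¹, inv_smul_smul, ← mul_smul, h1]
      exact (Sb.adj_const_Q hu₀ hu₀1 h2 (fun e => huv (inv_mul_eq_one.mp (conj_eq_one_iff.mp e)))).mp ha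
    have hcross : ∀ u ∈ PP, ∀ v ∈ PP, Adj (u • Sb.Q) (v • Sb.Q') → u = v := by
      intro u hu v hv h
      rw [← adj_smul u⁻¹, inv_smul_smul, ← mul_smul] at h
      by_contra huv
      exact hb ((Sb.adj_const_Q' (mul_mem (inv_mem hu) hv) (fun e => huv (inv_mul_eq_one.mp e)) hu₀ hu₀1).mp h)
    let Clique : Finset (Sylow 3 G) → Prop := fun K => K.card = 10 ∧ ∀ A ∈ K, ∀ B ∈ K, A ≠ B → Adj A B
    set 𝒞 := (Finset.univ : Finset (Finset (Sylow 3 G))).filter Clique with h𝒞
    set K₁ := insert Sb.P Sb.O with hK₁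
    set K₂ := insert Sb.P Sb.O' with hK₂
    have hPO : Sb.P ∉ Sb.O ∧ Sb.P ∉ Sb.O' := by
      have hP : Sb.P ∉ nb Sb.P := fun h => (mem_nb.mp h).1 rfl
      rw [Sb.nb_P, Finset.mem_union] at hP
      exact ⟨fun h => hP (Or.inl h), fun h => hP (Or.inr h)⟩
    have hK₁c : K₁ ∈ 𝒞 := by
      rw [h𝒞, Finset.mem_filter]
      refine ⟨Finset.mem_univ _, by rw [hK₁, Finset.card_insert_of_notMem hPO.1, Sb.card_O], ?_⟩
      intro A hA B hB hne
      rcases Finset.mem_insert.mp hA with rfl | hA <;> rcases Finset.mem_insert.mp hB with rfl | hB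
      · exact absurd rfl hne
      · exact mem_nb.mp (Sb.nb_P ▸ Finset.mem_union_left _ hB)
      · exact adj_symm (mem_nb.mp (Sb.nb_P ▸ Finset.mem_union_left _ hA))
      · obtain ⟨u, hu, rfl⟩ := Sb.mem_O.mp hA
        obtain ⟨v, hv, rfl⟩ := Sb.mem_O.mp hB
        exact hO u hu v hv fun e => hne (by rw [e])
    have hK₂c : K₂ ∈ 𝒞 := by
      rw [h𝒞, Finset.mem_filter]
      refine ⟨Finset.mem_univ _, by rw [hK₂, Finset.card_insert_of_notMem hPO.2, Sb.card_O'], ?_⟩
      intro A hA B hB hne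
      rcases Finset.mem_insert.mp hA with rfl | hA <;> rcases Finset.mem_insert.mp hB with rfl | hB
      · exact absurd rfl hne
      · exact mem_nb.mp (Sb.nb_P ▸ Finset.mem_union_right _ hB)
      · exact adj_symm (mem_nb.mp (Sb.nb_P ▸ Finset.mem_union_right _ hA))
      · obtain ⟨u, hu, rfl⟩ := Sb.mem_O'.mp hA
        obtain ⟨v, hv, rfl⟩ := Sb.mem_O'.mp hB
        exact hO' u hu v hv fun e => hne (by rw [e])
    have hthrough : 𝒞.filter (fun K => Sb.P ∈ K) = {K₁, K₂} := by
      ext K
      rw [Finset.mem_filter, Finset.mem_insert, Finset.mem_singleton]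
      constructor
      · rintro ⟨hK, hPK⟩
        rw [h𝒞, Finset.mem_filter] at hK
        obtain ⟨-, hcard, hcl⟩ := hK
        have hsub : ∀ A ∈ K, A = Sb.P ∨ A ∈ Sb.O ∨ A ∈ Sb.O' := fun A hA => by
          by_cases e : A = Sb.P
          · exact Or.inl e
          · exact Or.inr (Finset.mem_union.mp (Sb.nb_P ▸ mem_nb.mpr (hcl _ hPK A hA (Ne.symm e))))
        by_cases hmix : (∃ A ∈ K, A ∈ Sb.O) ∧ ∃ B ∈ K, B ∈ Sb.O'
        · exfalso
          obtain ⟨⟨A, hAK, hA⟩, ⟨B, hBK, hB⟩⟩ := hmix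
          obtain ⟨u, hu, rfl⟩ := Sb.mem_O.mp hA
          obtain ⟨v, hv, rfl⟩ := Sb.mem_O'.mp hB
          have huv := hcross u hu v hv (hcl _ hAK _ hBK (Sb.disjoint u hu v hv))
          subst huv
          have hle : K ⊆ {Sb.P, u • Sb.Q, u • Sb.Q'} := by
            intro C hC
            simp only [Finset.mem_insert, Finset.mem_singleton]
            rcases hsub C hC with h | h | h
            · exact Or.inl h
            · obtain ⟨w, hw, rfl⟩ := Sb.mem_O.mp h
              rw [hcross w hw u hu (hcl _ hC _ hBK (Sb.disjoint w hw u hu))]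
              exact Or.inr (Or.inl rfl)
            · obtain ⟨w, hw, rfl⟩ := Sb.mem_O'.mp h
              rw [← hcross u hu w hw (hcl _ hAK _ hC (Sb.disjoint u hu w hw))]
              exact Or.inr (Or.inr rfl)
          have := (Finset.card_le_card hle).trans Finset.card_le_three
          omega
        · rcases not_and_or.mp hmix with h | h
          · right
            refine Finset.eq_of_subset_of_card_le (fun A hA => ?_) (by
              rw [hK₂, Finset.card_insert_of_notMem hPO.2, Sb.card_O', hcard])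
            rcases hsub A hA with e | e | e
            · exact Finset.mem_insert.mpr (Or.inl e)
            · exact absurd ⟨A, hA, e⟩ h
            · exact Finset.mem_insert_of_mem e
          · left
            refine Finset.eq_of_subset_of_card_le (fun A hA => ?_) (by
              rw [hK₁, Finset.card_insert_of_notMem hPO.1, Sb.card_O, hcard])
            rcases hsub A hA with e | e | e
            · exact Finset.mem_insert.mpr (Or.inl e)
            · exact Finset.mem_insert_of_mem e
            · exact absurd ⟨A, hA, e⟩ h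
      · rintro (rfl | rfl)
        · exact ⟨hK₁c, Finset.mem_insert_self _ _⟩
        · exact ⟨hK₂c, Finset.mem_insert_self _ _⟩
    have hne12 : K₁ ≠ K₂ := by
      intro e
      have h : Sb.Q ∈ K₂ := e ▸ Finset.mem_insert_of_mem (Sb.mem_O.mpr ⟨1, one_mem _, (one_smul _ _).symm⟩)
      rcases Finset.mem_insert.mp h with h | h
      · exact Sb.ne_Q h
      · exact Finset.disjoint_left.mp Sb.disjoint_O (Sb.mem_O.mpr ⟨1, one_mem _, (one_smul _ _).symm⟩) h
    have hinv : ∀ (g : G), ∀ K ∈ 𝒞, K.image (g • ·) ∈ 𝒞 := by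
      intro g K hK
      rw [h𝒞, Finset.mem_filter] at hK ⊢
      refine ⟨Finset.mem_univ _, by rw [Finset.card_image_of_injective _ (MulAction.injective g), hK.2.1], ?_⟩
      intro A hA B hB hne
      obtain ⟨A', hA', rfl⟩ := Finset.mem_image.mp hA
      obtain ⟨B', hB', rfl⟩ := Finset.mem_image.mp hB
      exact (adj_smul g A' B').mpr (hK.2.2 A' hA' B' hB' fun e => hne (by rw [e]))
    have hcnt : ∀ X, (𝒞.filter fun K => X ∈ K).card = 2 := by
      intro X
      obtain ⟨g, rfl⟩ := MulAction.exists_smul_eq G Sb.P X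
      rw [← Finset.card_pair hne12, ← hthrough]
      refine Finset.card_bij (fun K _ => K.image (g⁻¹ • ·)) (fun K hK => ?_) (fun K _ L _ e => ?_) (fun K hK => ?_)
      · rw [Finset.mem_filter] at hK ⊢
        exact ⟨hinv _ K hK.1, Finset.mem_image.mpr ⟨_, hK.2, inv_smul_smul g _⟩⟩
      · exact Finset.image_injective (MulAction.injective g⁻¹) e
      · rw [Finset.mem_filter] at hK
        refine ⟨K.image (g • ·), Finset.mem_filter.mpr ⟨hinv g K hK.1, Finset.mem_image.mpr ⟨_, hK.2, rfl⟩⟩, ?_⟩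
        rw [Finset.image_image]
        simp [Function.comp_def]
    have h11 : 𝒞.card = 11 := by
      have h1 : ∑ X : Sylow 3 G, (𝒞.filter fun K => X ∈ K).card = ∑ K ∈ 𝒞, K.card := by
        simp only [Finset.card_filter]
        rw [Finset.sum_comm]
        exact Finset.sum_congr rfl fun K _ => by simp
      rw [Finset.sum_congr rfl (g := fun _ => 2) (fun X _ => hcnt X),
        Finset.sum_congr rfl (g := fun _ => 10) (fun K (hK : K ∈ 𝒞) => (Finset.mem_filter.mp hK).2.1),
        Finset.sum_const, Finset.sum_const, Finset.card_univ, ← Nat.card_eq_fintype_card, Sb.card_sylow,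
        smul_eq_mul, smul_eq_mul] at h1
      omega
    let H : Subgroup G :=
      { carrier := {g | K₁.image (g • ·) = K₁}
        one_mem' := by simp
        mul_mem' := fun {g h} hg hh => by
          show K₁.image ((g * h) • ·) = K₁
          have : ((g * h) • · : Sylow 3 G → Sylow 3 G) = (g • ·) ∘ (h • ·) := funext fun X => mul_smul g h X
          rw [this, ← Finset.image_image, hh, hg]
        inv_mem' := fun {g} hg => by
          show K₁.image (g⁻¹ • ·) = K₁
          conv_lhs => rw [← hg]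
          rw [Finset.image_image]
          simp [Function.comp_def] }
    refine ⟨H, le_antisymm ?_ (eleven_le_index hn ?_)⟩
    · rw [← h11, Subgroup.index_eq_card, ← Nat.card_eq_finsetCard 𝒞]
      refine Nat.card_le_card_of_injective (fun q : G ⧸ H => (⟨Quotient.liftOn' q (fun g => K₁.image (g • ·))
        (fun a b hab => ?_), ?_⟩ : 𝒞)) ?_
      · rw [QuotientGroup.leftRel_apply] at hab
        change K₁.image ((a⁻¹ * b) • ·) = K₁ at hab
        conv_lhs => rw [← hab]
        rw [Finset.image_image]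
        congr 1
        funext X
        simp [← mul_smul]
      · induction q using Quotient.inductionOn'
        exact hinv _ _ hK₁c
      · intro p q
        induction p using Quotient.inductionOn'
        induction q using Quotient.inductionOn'
        rename_i a b
        intro h
        refine QuotientGroup.eq.mpr ?_
        have h' : K₁.image (a • ·) = K₁.image (b • ·) := congrArg Subtype.val h
        show K₁.image ((a⁻¹ * b) • ·) = K₁
        have : ((a⁻¹ * b) • · : Sylow 3 G → Sylow 3 G) = (a⁻¹ • ·) ∘ (b • ·) := funext fun X => mul_smul _ _ X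
        rw [this, ← Finset.image_image, ← h', Finset.image_image]
        simp [Function.comp_def]
    · intro htop
      have hsub : (Finset.univ : Finset (Sylow 3 G)) ⊆ K₁ := by
        intro X _
        obtain ⟨g, rfl⟩ := MulAction.exists_smul_eq G Sb.P X
        have hg : g ∈ H := htop ▸ Subgroup.mem_top g
        change K₁.image (g • ·) = K₁ at hg
        rw [← hg]
        exact Finset.mem_image.mpr ⟨_, Finset.mem_insert_self _ _, rfl⟩
      have := Finset.card_le_card hsub
      rw [Finset.card_univ, ← Nat.card_eq_fintype_card, Sb.card_sylow, (Finset.mem_filter.mp hK₁c).2.1] at this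
      omega
  · -- complete bipartite neighbourhoods
    exfalso
    rw [if_neg ha] at hOc; rw [if_pos hb] at hO'c
    have h4 : com Sb.P Sb.R = 4 := by omega
    have hne : Sb.Q ≠ u₀ • Sb.Q := fun e =>
      hu₀1 (Sb.inj_Q u₀ hu₀ 1 (one_mem _) (by rw [one_smul]; exact e.symm))
    have hfar := Sb.com_far hne ha
    rw [h4] at hfar
    have hsub : insert Sb.P Sb.O' ⊆ nb Sb.Q ∩ nb (u₀ • Sb.Q) := by
      intro X hX
      rw [Finset.mem_inter, mem_nb, mem_nb]
      rcases Finset.mem_insert.mp hX with rfl | hX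
      · exact ⟨adj_symm hPQ, adj_symm ((Sb.adj_iff _).mpr ⟨u₀, hu₀, Or.inl rfl⟩)⟩
      · obtain ⟨v, hv, rfl⟩ := Sb.mem_O'.mp hX
        have hall : ∀ w ∈ PP, Adj Sb.Q (w • Sb.Q') := fun w hw => by
          by_cases h1 : w = 1
          · rw [h1, one_smul]; exact Sb.adj_QQ'
          · exact (Sb.adj_const_Q' hu₀ hu₀1 hw h1).mp hb
        refine ⟨hall v hv, ?_⟩
        rw [← adj_smul u₀⁻¹, inv_smul_smul, ← mul_smul]
        exact hall _ (mul_mem (inv_mem hu₀) hv)
    have hPn : Sb.P ∉ Sb.O' := fun h => by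
      have : Sb.P ∈ nb Sb.P := Sb.nb_P ▸ Finset.mem_union_right _ h
      exact (mem_nb.mp this).1 rfl
    have := Finset.card_le_card hsub
    rw [Finset.card_insert_of_notMem hPn, Sb.card_O', ← com, hfar] at this
    omega
  · -- parameters 55, 18, 1, 8
    exfalso
    rw [if_neg ha] at hOc; rw [if_neg hb] at hO'c
    have h1 : com Sb.P Sb.Q = 1 := by omega
    have h8 : com Sb.P Sb.R = 8 := by omega
    let A : Matrix (Sylow 3 G) (Sylow 3 G) (ZMod 7) := fun X Y => if Adj X Y then 1 else 0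
    let J : Matrix (Sylow 3 G) (Sylow 3 G) (ZMod 7) := fun _ _ => 1
    have hA2 : A * A = (3 : ZMod 7) • (1 : Matrix (Sylow 3 G) (Sylow 3 G) (ZMod 7)) + J := by
      ext X Y
      have hc : (A * A) X Y = (com X Y : ZMod 7) := by
        rw [Matrix.mul_apply, com, show nb X ∩ nb Y = Finset.univ.filter (fun W => Adj X W ∧ Adj Y W) by
          ext W; simp [mem_nb], Finset.card_filter, Nat.cast_sum]
        refine Finset.sum_congr rfl fun W _ => ?_
        simp only [A]
        by_cases p : Adj X W <;> by_cases q : Adj W Y <;>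
          simp [p, q, show Adj Y W ↔ Adj W Y from ⟨adj_symm, adj_symm⟩]
      rw [hc, Matrix.add_apply, Matrix.smul_apply, Matrix.one_apply]
      simp only [J]
      by_cases e : X = Y
      · subst e
        rw [com, Finset.inter_self, Sb.card_nb, if_pos rfl]
        rw [smul_eq_mul]; rfl
      · rw [if_neg e, smul_eq_mul, mul_zero, zero_add]
        by_cases hadj : Adj X Y
        · rw [Sb.com_adj hadj, h1, Nat.cast_one]
        · rw [Sb.com_far e hadj, h8]; rfl
    have hJA : J * A = (4 : ZMod 7) • J := by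
      ext X Y
      rw [Matrix.mul_apply, Matrix.smul_apply, smul_eq_mul]
      simp only [J, A, one_mul, mul_one]
      rw [Finset.sum_boole, show (Finset.univ.filter fun W => Adj W Y) = nb Y by
        ext W; simp only [Finset.mem_filter, Finset.mem_univ, true_and, mem_nb]; exact ⟨adj_symm, adj_symm⟩,
        Sb.card_nb]
      rfl
    have hJJ : J * J = (6 : ZMod 7) • J := by
      ext X Y
      rw [Matrix.mul_apply, Matrix.smul_apply, smul_eq_mul]
      simp only [J, mul_one, Finset.sum_const, Finset.card_univ, ← Nat.card_eq_fintype_card, Sb.card_sylow,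
        nsmul_eq_mul]
      rfl
    have hA7 : A ^ 7 = (6 : ZMod 7) • A + (6 : ZMod 7) • J := by
      rw [show A ^ 7 = A * A * (A * A) * (A * A) * A by simp only [pow_succ, pow_zero, one_mul, mul_assoc],
        hA2]
      simp only [add_mul, mul_add, smul_mul_assoc, mul_smul_comm, smul_add, smul_smul, one_mul, mul_one, hJJ, hJA]
      match_scalars <;> rfl
    have htr := ZMod.trace_pow_card A
    rw [hA7, Matrix.trace_add, Matrix.trace_smul, Matrix.trace_smul] at htr
    have hAA : A.trace = 0 := by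
      simp only [Matrix.trace, Matrix.diag, A]
      exact Finset.sum_eq_zero fun X _ => if_neg fun h => h.1 rfl
    have hJt : J.trace = 6 := by
      simp only [Matrix.trace, Matrix.diag, J, Finset.sum_const, Finset.card_univ, ← Nat.card_eq_fintype_card,
        Sb.card_sylow, nsmul_eq_mul, mul_one]
      rfl
    rw [hAA, hJt, zero_pow (by norm_num), smul_zero, zero_add, smul_eq_mul] at htr
    exact trace_contra htr

end Suborbits

/-- **Uniqueness of the simple group of order 7920.** -/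
theorem nonempty_equiv_of_card [IsSimpleGroup G] (hn : Nat.card G = 7920) : Nonempty (G ≃* model) := by
  obtain ⟨Sb⟩ := exists_suborbits hn
  obtain ⟨H, hH⟩ := Sb.exists_index_eleven hn
  exact nonempty_equiv_model hn H hH

end CfsgLib.M11Unique
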