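import Mathlib

/-!
# The permutation model of degree eleven of the group of order 7920

Candidates for an element normalizing `⟨x ↦ 4 x⟩` in a group containing `x ↦ x + 1`, and the
finite checks singling out the ten that generate a group without elements of order seven.
-/

set_option autoImplicit false

namespace CfsgLib.M11Unique

/-- translation by one -/
def aP : Equiv.Perm (Fin 11) where
  toFun i := i + 1
  invFun i := i + 10
  left_inv := by decide
  right_inv := by decide

/-- multiplication by four -/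
def bP : Equiv.Perm (Fin 11) where
  toFun i := 4 * i
  invFun i := 3 * i
  left_inv := by decide
  right_inv := by decide

/-- negation -/
def nP : Equiv.Perm (Fin 11) where
  toFun i := 10 * i
  invFun i := 10 * i
  left_inv := by decide
  right_inv := by decide

/-- the candidate with values `u`, `v` at `1`, `2` satisfying `c (4 i) = 5 (c i)` -/
def cF (u v : Fin 11) (i : Fin 11) : Fin 11 :=
  ![0, u, v, 9 * u, 5 * u, 3 * u, 9 * v, 4 * v, 5 * v, 4 * u, 3 * v] i

/-- the distinguished candidate -/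
def cP : Equiv.Perm (Fin 11) where
  toFun := cF 1 6
  invFun := ![0, 1, 7, 5, 9, 4, 2, 10, 8, 3, 6]
  left_inv := by decide
  right_inv := by decide

/-- the group generated by the model permutations -/
def model : Subgroup (Equiv.Perm (Fin 11)) := Subgroup.closure {aP, bP, cP}

theorem aP_mem : aP ∈ model := Subgroup.subset_closure (by simp)

theorem bP_mem : bP ∈ model := Subgroup.subset_closure (by simp)

theorem cP_mem : cP ∈ model := Subgroup.subset_closure (by simp)

theorem eq_cF (f : Fin 11 → Fin 11) (h0 : f 0 = 0) (h : ∀ i, f (4 * i) = 5 * f i) :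
    f = cF (f 1) (f 2) := by
  have h4 : f 4 = 5 * f 1 := h 1
  have h5 : f 5 = 5 * f 4 := h 4
  have h9 : f 9 = 5 * f 5 := h 5
  have h3 : f 3 = 5 * f 9 := h 9
  have h8 : f 8 = 5 * f 2 := h 2
  have hX : f 10 = 5 * f 8 := h 8
  have h7 : f 7 = 5 * f 10 := h 10
  have h6 : f 6 = 5 * f 7 := h 7
  have e2 : ∀ x : Fin 11, 5 * (5 * x) = 3 * x := by decide
  have e3 : ∀ x : Fin 11, 5 * (3 * x) = 4 * x := by decide
  have e4 : ∀ x : Fin 11, 5 * (4 * x) = 9 * x := by decide
  rw [h4, e2] at h5; rw [h5, e3] at h9; rw [h9, e4] at h3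
  rw [h8, e2] at hX; rw [hX, e3] at h7; rw [h7, e4] at h6
  funext i
  fin_cases i
  · exact h0
  · rfl
  · rfl
  · exact h3
  · exact h4
  · exact h5
  · exact h6
  · exact h7
  · exact h8
  · exact h9
  · exact hX

/-- the iterate test -/
def period7 (w : Fin 11 → Fin 11) (i : Fin 11) : Bool :=
  w (w (w (w (w (w (w i)))))) == i && !(w i == i)

/-- the word `x ↦ c (c'(x) + l) + k` -/
def word (f g : Fin 11 → Fin 11) (k l : Fin 11) (x : Fin 11) : Fin 11 := f (g x + l) + k

theorem key_search : ∀ u v : Fin 11, Function.Injective (cF u v) →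
    (∃ m : Fin 5, cF u v = (⇑bP)^[m.val] ∘ cF 1 6 ∨
        cF u v = ⇑nP ∘ (⇑bP)^[m.val] ∘ cF 1 6 ∘ ⇑nP) ∨
      (∃ k : Fin 11, ∃ i : Fin 11, period7 (word (cF u v) id k 0) i = true) ∨
      ∃ k : Fin 11, ∃ i : Fin 11, period7 (word (cF u v) (cF u v) k 1) i = true := by
  decide +kernel

theorem nP_conj_aP : nP * aP * nP⁻¹ = aP⁻¹ := by decide +kernel

theorem nP_conj_bP : nP * bP * nP⁻¹ = bP := by decide +kernel

theorem nP_mul_self : nP * nP = 1 := by decide +kernel

theorem orderOf_aP : orderOf aP = 11 :=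
  haveI : Fact (Nat.Prime 11) := ⟨by norm_num⟩
  orderOf_eq_prime (by decide +kernel) (by decide +kernel)

theorem orderOf_bP : orderOf bP = 5 :=
  haveI : Fact (Nat.Prime 5) := ⟨by norm_num⟩
  orderOf_eq_prime (by decide +kernel) (by decide +kernel)

theorem orderOf_word8 : orderOf (aP * aP * cP) = 8 :=
  haveI : Fact (Nat.Prime 2) := ⟨by norm_num⟩
  orderOf_eq_prime_pow (p := 2) (n := 2) (by decide +kernel) (by decide +kernel)

theorem orderOf_word3 : orderOf (aP * cP * cP) = 3 :=
  haveI : Fact (Nat.Prime 3) := ⟨by norm_num⟩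
  orderOf_eq_prime (by decide +kernel) (by decide +kernel)

theorem dvd_card_model : 1320 ∣ Nat.card model := by
  have hw8 : aP * aP * cP ∈ model := mul_mem (mul_mem aP_mem aP_mem) cP_mem
  have hw3 : aP * cP * cP ∈ model := mul_mem (mul_mem aP_mem cP_mem) cP_mem
  have h1 := Subgroup.orderOf_dvd_natCard model aP_mem
  have h2 := Subgroup.orderOf_dvd_natCard model bP_mem
  have h3 := Subgroup.orderOf_dvd_natCard model hw8
  have h4 := Subgroup.orderOf_dvd_natCard model hw3
  rw [orderOf_aP] at h1; rw [orderOf_bP] at h2; rw [orderOf_word8] at h3; rw [orderOf_word3] at h4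
  exact Nat.Coprime.mul_dvd_of_dvd_of_dvd (by norm_num : Nat.Coprime 264 5)
    (Nat.Coprime.mul_dvd_of_dvd_of_dvd (by norm_num : Nat.Coprime 88 3)
      (Nat.Coprime.mul_dvd_of_dvd_of_dvd (by norm_num : Nat.Coprime 11 8) h1 h3) h4) h2

end CfsgLib.M11Unique
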