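import Cfsg.Agent.Lib.M11Unique.TrivialIntersection

/-!
# The number of elements of each order in a simple group of order 7920
-/

set_option autoImplicit false
set_option linter.style.haveILetI false
set_option maxRecDepth 8192
set_option synthInstance.maxSize 1024

namespace CfsgLib.M11Unique

open CfsgLib CfsgLib.BrauerTuan
open scoped _root_.Classical

universe u

theorem inT_facts_eight : (∀ m : Mat3, InT m → m ^ 8 = 1) ∧
    (∀ m : Mat3, InT m → m ^ 4 ≠ 1 → ∃ h : Mat3, InT h ∧ (h * XMat = m * h ∨ h * XMat ^ 7 = m * h)) := by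
  decide +kernel

theorem inT_center : ∀ m : Mat3, InT m → m ^ 4 ≠ 1 → ∃ h : Mat3, InT h ∧ h * m ≠ m * h := by decide +kernel

theorem inT_no_inverting : ∀ m : Mat3, InT m → m ^ 4 ≠ 1 → ∀ h : Mat3, InT h → h * m ≠ m ^ 7 * h := by
  decide +kernel

theorem inT_fix_sq : ∀ a : V3, a ≠ 0 → ∀ m : Mat3, InT m → m.mulVec a = a → m * m = 1 := by decide +kernel

theorem inT_fix_unique : ∀ a : V3, a ≠ 0 → ∀ m : Mat3, InT m → m.mulVec a = a → m ≠ 1 →
    ∀ m' : Mat3, InT m' → m'.mulVec a = a → m' ≠ 1 → m' = m := by decide +kernel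

theorem inT_fix_card : ∀ a : V3, a ≠ 0 → ∀ m : Mat3, InT m → m.mulVec a = a → m ≠ 1 →
    (Finset.univ.filter fun b : V3 => m.mulVec b = -b).card = 3 := by decide +kernel

/-- The number of elements of given order. -/
noncomputable def numOrder (G : Type u) [Group G] (n : ℕ) : ℕ := Nat.card {g : G // orderOf g = n}

theorem numOrder_congr {G : Type u} {H : Type*} [Group G] [Group H] (e : G ≃* H) (n : ℕ) :
    numOrder G n = Nat.card {g : H // orderOf g = n} :=
  Nat.card_congr (e.toEquiv.subtypeEquiv fun g => by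
    show orderOf g = n ↔ orderOf (e g) = n
    rw [MulEquiv.orderOf_eq])

theorem numOrder_pos_iff {G : Type u} [Group G] [Finite G] {n : ℕ} :
    0 < numOrder G n ↔ ∃ g : G, orderOf g = n := by
  rw [numOrder, Nat.card_pos_iff]
  exact ⟨fun ⟨⟨g⟩, _⟩ => ⟨g, g.2⟩, fun ⟨g, hg⟩ => ⟨⟨⟨g, hg⟩⟩, inferInstance⟩⟩

/-- Elements of order `p` when the Sylow `p`-subgroups have exponent `p` and intersect trivially. -/
theorem numOrder_prime {G : Type u} [Group G] [Finite G] {p : ℕ} [Fact p.Prime] {c : ℕ}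
    (hc : ∀ S : Sylow p G, Nat.card (S : Subgroup G) = c)
    (hexp : ∀ S : Sylow p G, ∀ g ∈ (S : Subgroup G), g ≠ 1 → orderOf g = p)
    (hti : ∀ S S' : Sylow p G, ∀ g ∈ (S : Subgroup G), g ∈ (S' : Subgroup G) → g ≠ 1 → S = S') :
    numOrder G p = Nat.card (Sylow p G) * (c - 1) := by
  letI := Fintype.ofFinite G
  letI := Fintype.ofFinite (Sylow p G)
  have hp : p.Prime := Fact.out
  let f : (Σ S : Sylow p G, {g : (S : Subgroup G) // g ≠ 1}) → {g : G // orderOf g = p} :=
    fun q => ⟨((q.2 : (q.1 : Subgroup G)) : G), hexp q.1 _ q.2.1.2 fun h => q.2.2 (Subtype.ext h)⟩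
  have hf : Function.Bijective f := by
    constructor
    · rintro ⟨S, ⟨⟨g, hg⟩, hg1⟩⟩ ⟨S', ⟨⟨g', hg'⟩, hg1'⟩⟩ h
      have he : g = g' := congrArg Subtype.val h
      subst he
      obtain rfl := hti S S' g hg hg' fun e => hg1 (Subtype.ext e)
      rfl
    · rintro ⟨g, hg⟩
      obtain ⟨S, hS⟩ := (IsPGroup.of_card (p := p) (n := 1)
        (by rw [Nat.card_zpowers, hg, pow_one] : Nat.card (Subgroup.zpowers g) = p ^ 1)).exists_le_sylow
      exact ⟨⟨S, ⟨⟨g, hS (Subgroup.mem_zpowers g)⟩, fun e => by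
        rw [show g = 1 from congrArg Subtype.val e, orderOf_one] at hg
        exact hp.ne_one hg.symm⟩⟩, rfl⟩
  rw [numOrder, ← Nat.card_eq_of_bijective f hf, Nat.card_sigma, Finset.sum_congr rfl (g := fun _ => c - 1)
    fun S _ => ?_, Finset.sum_const, Finset.card_univ, smul_eq_mul, Nat.card_eq_fintype_card]
  rw [Nat.card_eq_fintype_card, Fintype.card_subtype_compl, Fintype.card_subtype_eq,
    ← Nat.card_eq_fintype_card, hc S]

/-- The size of a conjugacy class. -/
theorem card_isConj {G : Type u} [Group G] [Finite G] (x : G) :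
    Nat.card {g : G // IsConj x g} = (Subgroup.centralizer ({x} : Set G)).index := by
  rw [Subgroup.index_eq_card]
  refine (Nat.card_congr (Equiv.ofBijective
    (fun q : G ⧸ Subgroup.centralizer ({x} : Set G) => (⟨Quotient.liftOn' q (fun g => g * x * g⁻¹) ?_, ?_⟩ :
      {g : G // IsConj x g})) ⟨?_, ?_⟩)).symm
  · intro a b hab
    rw [QuotientGroup.leftRel_apply, Subgroup.mem_centralizer_singleton_iff] at hab
    calc a * x * a⁻¹ = a * (x * (a⁻¹ * b)) * b⁻¹ := by group
      _ = b * x * b⁻¹ := by rw [← hab]; group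
  · induction q using Quotient.inductionOn'
    rename_i a
    exact isConj_iff.mpr ⟨a, rfl⟩
  · intro p q
    induction p using Quotient.inductionOn'
    induction q using Quotient.inductionOn'
    rename_i a b
    intro h
    have h' : a * x * a⁻¹ = b * x * b⁻¹ := congrArg Subtype.val h
    refine QuotientGroup.eq.mpr (Subgroup.mem_centralizer_singleton_iff.mpr ?_)
    calc a⁻¹ * b * x = a⁻¹ * (b * x * b⁻¹) * b := by group
      _ = x * (a⁻¹ * b) := by rw [← h']; group
  · rintro ⟨g, hg⟩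
    obtain ⟨a, rfl⟩ := isConj_iff.mp hg
    exact ⟨QuotientGroup.mk a, rfl⟩

variable {G : Type u} [Group G] [Fintype G] [IsSimpleGroup G]

/-- **The element counts of a simple group of order 7920.** -/
theorem order_counts (hn : Nat.card G = 7920) :
    (∀ g : G, orderOf g ∈ ({1, 2, 3, 4, 5, 6, 8, 11} : Finset ℕ)) ∧
    numOrder G 1 = 1 ∧ numOrder G 2 = 165 ∧ numOrder G 3 = 440 ∧ numOrder G 4 = 990 ∧
    numOrder G 5 = 1584 ∧ numOrder G 6 = 1320 ∧ numOrder G 8 = 1980 ∧ numOrder G 11 = 1440 := by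
  haveI : Fact (Nat.Prime 2) := ⟨Nat.prime_two⟩
  haveI : Fact (Nat.Prime 3) := ⟨by norm_num⟩
  haveI : Fact (Nat.Prime 5) := ⟨by norm_num⟩
  haveI : Fact (Nat.Prime 11) := ⟨by norm_num⟩
  obtain ⟨F⟩ := exists_frame hn
  obtain ⟨h48, hinvconj⟩ := involution_7920 (G := G) hn
  obtain ⟨⟨T, -, -, hsyl11⟩, P₅, hP₅, hC₅⟩ := local_7920 (G := G) hn
  set N := Subgroup.normalizer ((F.P : Subgroup G) : Set G) with hN
  -- trivial intersection, for all pairs
  have hti : ∀ S S' : Sylow 3 G, ∀ g ∈ (S : Subgroup G), g ∈ (S' : Subgroup G) → g ≠ 1 → S = S' := by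
    intro S S' g hg hg' hg1
    by_contra hne
    obtain ⟨c, hc⟩ := MulAction.exists_smul_eq G S F.P
    have h1 : c * g * c⁻¹ ∈ (F.P : Subgroup G) := by
      rw [← hc, Sylow.coe_subgroup_smul]
      exact Subgroup.smul_mem_pointwise_smul _ (MulAut.conj c) _ hg
    have h2 : c * g * c⁻¹ ∈ ((c • S' : Sylow 3 G) : Subgroup G) := by
      rw [Sylow.coe_subgroup_smul]
      exact Subgroup.smul_mem_pointwise_smul _ (MulAut.conj c) _ hg'
    exact hg1 (conj_eq_one_iff.mp (F.ti hn (fun e => hne (smul_left_cancel c (hc.trans e.symm))) h1 h2))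
  have h55 : Nat.card (Sylow 3 G) = 55 := by
    have h := Subgroup.card_mul_index N
    rw [show N.index = Nat.card (Sylow 3 G) from (Sylow.card_eq_index_normalizer F.P).symm,
      show Nat.card N = 144 from normalizer_7920 hn F.P, hn] at h
    omega
  have c3 : numOrder G 3 = 440 := by
    rw [numOrder_prime (c := 9) (card_sylow_three hn) (fun S g hg h1 => orderOf_eq_prime (pow_three_eq_one hn S hg) h1)
      hti, h55]
  have hprime : ∀ (p : ℕ) [Fact p.Prime], (∀ S : Sylow p G, Nat.card (S : Subgroup G) = p) →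
      numOrder G p = Nat.card (Sylow p G) * (p - 1) := by
    intro p _ hp
    refine numOrder_prime hp (fun S g hg h1 => ?_) fun S S' g hg hg' h1 => ?_
    · have := Subgroup.orderOf_dvd_natCard _ hg
      rw [hp S] at this
      exact ((Fact.out : p.Prime).eq_one_or_self_of_dvd _ this).resolve_left fun e => h1 (orderOf_eq_one_iff.mp e)
    · have key : ∀ S : Sylow p G, g ∈ (S : Subgroup G) → Subgroup.zpowers g = (S : Subgroup G) := by
        intro S hg
        refine Subgroup.eq_of_le_of_card_ge (Subgroup.zpowers_le.mpr hg) ?_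
        have := Subgroup.orderOf_dvd_natCard _ hg
        rw [hp S] at this
        rw [hp S, Nat.card_zpowers]
        exact (((Fact.out : p.Prime).eq_one_or_self_of_dvd _ this).resolve_left fun e => h1 (orderOf_eq_one_iff.mp e)).ge
      exact Sylow.ext ((key S hg).symm.trans (key S' hg'))
  have c5 : numOrder G 5 = 1584 := by
    have hS : ∀ S : Sylow 5 G, Nat.card (S : Subgroup G) = 5 := fun S => by
      rw [S.card_eq_multiplicity, ← P₅.card_eq_multiplicity, hP₅]
    rw [hprime 5 hS]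
    have hmod : Nat.card (Sylow 5 G) % 5 = 1 := card_sylow_modEq_one 5 G
    set M := Subgroup.normalizer ((P₅ : Subgroup G) : Set G) with hM
    have h1 := Subgroup.card_mul_index M
    rw [show M.index = Nat.card (Sylow 5 G) from (Sylow.card_eq_index_normalizer P₅).symm, hn] at h1
    have hd : Nat.card M ∣ 5 * 4 := by
      have hker := Subgroup.card_mul_index ((P₅ : Subgroup G).normalizerMonoidHom).ker
      rw [Subgroup.index_ker] at hker
      have e1 : Nat.card ((P₅ : Subgroup G).normalizerMonoidHom).ker = 5 := by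
        rw [Subgroup.normalizerMonoidHom_ker,
          Nat.card_congr (Subgroup.subgroupOfEquivOfLe (Subgroup.centralizer_le_normalizer _)).toEquiv, hC₅]
      have e2 : Nat.card ((P₅ : Subgroup G).normalizerMonoidHom).range ∣ 4 := by
        refine (Subgroup.card_subgroup_dvd_card _).trans ?_
        haveI : IsCyclic (P₅ : Subgroup G) := isCyclic_of_prime_card hP₅
        rw [IsCyclic.card_mulAut, hP₅, Nat.totient_prime (by norm_num)]
      rw [hM, ← hker, e1]
      exact Nat.mul_dvd_mul_left 5 e2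
    have h5 : 5 ∣ Nat.card M := by
      have := Subgroup.card_dvd_of_le (Subgroup.le_normalizer (H := (P₅ : Subgroup G)))
      rwa [hP₅] at this
    obtain ⟨k, hk⟩ := h5
    rw [hk] at hd h1
    have hk4 : k ∣ 4 := Nat.dvd_of_mul_dvd_mul_left (by norm_num : 0 < 5) hd
    have : k ≤ 4 := Nat.le_of_dvd (by norm_num) hk4
    interval_cases k <;> omega
  have c11 : numOrder G 11 = 1440 := by
    rw [hprime 11 fun S => by rw [S.card_eq_multiplicity, ← T.P.card_eq_multiplicity, T.card_P], hsyl11]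
  -- a Sylow 2-subgroup in the normalizer
  obtain ⟨S₀, hS₀⟩ := Sylow.exists_subgroup_card_pow_prime (G := N) 2 (n := 4)
    (by rw [normalizer_7920 hn F.P]; norm_num)
  let ψ : S₀ →* Mat3 := F.ρ.comp S₀.subtype
  have hψinj : ∀ s t : S₀, ψ s = ψ t → s = t := by
    intro s t h
    have hmem : (((s⁻¹ * t : S₀) : N) : G) ∈ (F.P : Subgroup G) := by
      refine (F.eq_one _).mp ?_
      show ψ (s⁻¹ * t) = 1
      rw [map_mul, ← h, ← map_mul, inv_mul_cancel, map_one]
    have h1 := orderOf_dvd_natCard (s⁻¹ * t)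
    rw [hS₀, ← Subgroup.orderOf_coe, ← Subgroup.orderOf_coe] at h1
    have h2 := orderOf_dvd_of_pow_eq_one (F.cube hmem)
    have := orderOf_eq_one_iff.mp (Nat.eq_one_of_dvd_coprimes (by norm_num : Nat.Coprime 3 (2 ^ 4)) h2 h1)
    exact inv_mul_eq_one.mp (Subtype.ext (Subtype.ext this))
  have hψsurj : ∀ m, InT m → ∃ s : S₀, ψ s = m := by
    intro m hm
    have hbij : Function.Bijective (fun s : S₀ => (⟨ψ s, F.inT _⟩ : {m : Mat3 // InT m})) :=
      (Nat.bijective_iff_injective_and_card _).mpr ⟨fun s t h => hψinj s t (congrArg Subtype.val h), by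
        rw [hS₀, Nat.card_eq_fintype_card, card_inT]; rfl⟩
    obtain ⟨s, hs⟩ := hbij.2 ⟨m, hm⟩
    exact ⟨s, congrArg Subtype.val hs⟩
  have hψinT : ∀ s, InT (ψ s) := fun s => F.inT _
  let S₂ : Sylow 2 G := Sylow.ofCard (S₀.map N.subtype) (by
    rw [Subgroup.card_map_of_injective N.subtype_injective, hS₀, hn, show (7920 : ℕ) = 2 ^ 4 * 495 by norm_num,
      factorization_pow_mul_7920 Nat.prime_two (by norm_num)])
  have htwo : ∀ H : Subgroup G, IsPGroup 2 H →
      ∃ c : G, ∀ h ∈ H, ∃ s : S₀, ((s : N) : G) = c * h * c⁻¹ := by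
    intro H hH
    obtain ⟨Q, hQ⟩ := hH.exists_le_sylow
    obtain ⟨c, hc⟩ := MulAction.exists_smul_eq G Q S₂
    refine ⟨c, fun h hh => ?_⟩
    have : c * h * c⁻¹ ∈ (S₂ : Subgroup G) := by
      rw [← hc, Sylow.coe_subgroup_smul]
      exact Subgroup.smul_mem_pointwise_smul _ (MulAut.conj c) _ (hQ hh)
    obtain ⟨w, hw, hwe⟩ := this
    exact ⟨⟨w, hw⟩, hwe⟩
  -- centralizers of elements of order 3
  have hcen3 : ∀ g : G, orderOf g = 3 → ∃ c : G, c * g * c⁻¹ ∈ (F.P : Subgroup G) ∧
      ∀ t, Commute t g → c * t * c⁻¹ ∈ N := by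
    intro g hg
    obtain ⟨Q, hQ⟩ := (IsPGroup.of_card (p := 3) (n := 1)
      (by rw [Nat.card_zpowers, hg, pow_one] : Nat.card (Subgroup.zpowers g) = 3 ^ 1)).exists_le_sylow
    obtain ⟨c, hc⟩ := MulAction.exists_smul_eq G Q F.P
    have hmem : c * g * c⁻¹ ∈ (F.P : Subgroup G) := by
      rw [← hc, Sylow.coe_subgroup_smul]
      exact Subgroup.smul_mem_pointwise_smul _ (MulAut.conj c) _ (hQ (Subgroup.mem_zpowers _))
    refine ⟨c, hmem, fun t ht => Sylow.smul_eq_iff_mem_normalizer.mp ?_⟩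
    refine hti _ _ (c * g * c⁻¹) ?_ hmem fun h => ?_
    · have : (c * t * c⁻¹) * (c * g * c⁻¹) * (c * t * c⁻¹)⁻¹ ∈ ((c * t * c⁻¹) • F.P : Sylow 3 G).1 := by
        show _ ∈ (((c * t * c⁻¹) • F.P : Sylow 3 G) : Subgroup G)
        rw [Sylow.coe_subgroup_smul]
        exact Subgroup.smul_mem_pointwise_smul _ (MulAut.conj (c * t * c⁻¹)) _ hmem
      rwa [show (c * t * c⁻¹) * (c * g * c⁻¹) * (c * t * c⁻¹)⁻¹ = c * g * c⁻¹ by
        rw [show (c * t * c⁻¹) * (c * g * c⁻¹) * (c * t * c⁻¹)⁻¹ = c * (t * g) * t⁻¹ * c⁻¹ by group, ht.eq]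
        group] at this
    · rw [conj_eq_one_iff.mp h, orderOf_one] at hg; omega
  have h6 : ∀ g t : G, orderOf g = 3 → Commute t g → t ^ 6 = 1 := by
    intro g t hg ht
    obtain ⟨c, hcP, hcN⟩ := hcen3 g hg
    obtain ⟨a, ha⟩ := (F.mem_P _).mp hcP
    have ha0 : a ≠ 0 := fun e => by
      rw [e, F.v_zero, eq_comm, conj_eq_one_iff] at ha
      rw [ha, orderOf_one] at hg; omega
    set n : N := ⟨c * t * c⁻¹, hcN t ht⟩
    have hfix : (F.ρ n).mulVec a = a := F.v_inj (by
      rw [← F.act, ha]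
      show c * t * c⁻¹ * (c * g * c⁻¹) * (c * t * c⁻¹)⁻¹ = c * g * c⁻¹
      rw [show c * t * c⁻¹ * (c * g * c⁻¹) * (c * t * c⁻¹)⁻¹ = c * (t * g) * t⁻¹ * c⁻¹ by group, ht.eq]
      group)
    have h2 : ((n * n : N) : G) ∈ (F.P : Subgroup G) :=
      (F.eq_one _).mp (by rw [map_mul]; exact inT_fix_sq a ha0 _ (F.inT n) hfix)
    have h3 := F.cube h2
    rw [Subgroup.coe_mul, ← pow_two, ← pow_mul] at h3
    change (c * t * c⁻¹) ^ 6 = 1 at h3
    rwa [conj_pow, conj_eq_one_iff] at h3
  -- element orders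
  have horders : ∀ g : G, orderOf g ∈ ({1, 2, 3, 4, 5, 6, 8, 11} : Finset ℕ) := by
    intro g
    have hpow : ∀ p : ℕ, p.Prime → p ∣ orderOf g → orderOf (g ^ (orderOf g / p)) = p := fun p hp hd =>
      orderOf_pow_orderOf_div (orderOf_pos g).ne' hd
    have hbig : ∀ (p : ℕ) [Fact p.Prime] (Q : Sylow p G), Nat.card (Q : Subgroup G) = p →
        Nat.card (Subgroup.centralizer ((Q : Subgroup G) : Set G)) = p → ¬ p * p ∣ 7920 →
        p ∣ orderOf g → orderOf g = p := by
      intro p _ Q hQ hCQ hsq hd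
      have hp : p.Prime := Fact.out
      by_contra hne
      have hu : orderOf (g ^ p) = orderOf g / p := orderOf_pow_of_dvd hp.ne_zero hd
      have hu1 : g ^ p ≠ 1 := fun e => hne (((hp.eq_one_or_self_of_dvd _ (orderOf_dvd_of_pow_eq_one e))).resolve_left
        fun e' => hp.ne_one (Nat.dvd_one.mp (e' ▸ hd)))
      refine not_dvd_centralizer Q hQ hCQ hu1 (fun h => hsq ?_) ?_
      · rw [hu] at h
        have := Nat.mul_dvd_of_dvd_div hd h
        exact this.trans (hn ▸ orderOf_dvd_natCard g)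
      · rw [← hpow p hp hd]
        exact Subgroup.orderOf_dvd_natCard _ (Subgroup.mem_centralizer_singleton_iff.mpr
          ((Commute.refl g).pow_pow _ _).eq)
    by_cases h5 : 5 ∣ orderOf g
    · rw [hbig 5 P₅ hP₅ hC₅ (by norm_num) h5]; decide
    by_cases h11 : 11 ∣ orderOf g
    · rw [hbig 11 T.P T.card_P (by rw [T.card_C]) (by norm_num) h11]; decide
    by_cases h3 : 3 ∣ orderOf g
    · have := orderOf_dvd_of_pow_eq_one (h6 _ g (hpow 3 (by norm_num) h3) ((Commute.refl g).pow_right _))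
      have hle := Nat.le_of_dvd (by norm_num) this
      interval_cases ho : orderOf g <;> first | decide | norm_num at h3 this
    · have hd : orderOf g ∣ 2 ^ 4 := by
        have h1 : orderOf g ∣ 2 ^ 4 * (9 * (5 * 11)) := by
          have := orderOf_dvd_natCard g
          rw [hn] at this
          exact this
        have h9 : Nat.Coprime (orderOf g) (9 * (5 * 11)) := by
          refine Nat.Coprime.mul_right ?_ (Nat.Coprime.mul_right ?_ ?_)
          · exact ((Nat.Prime.coprime_iff_not_dvd (by norm_num)).mpr h3).symm.pow_right 2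
          · exact ((Nat.Prime.coprime_iff_not_dvd (by norm_num)).mpr h5).symm
          · exact ((Nat.Prime.coprime_iff_not_dvd (by norm_num)).mpr h11).symm
        exact h9.dvd_of_dvd_mul_right h1
      obtain ⟨i, hi, he⟩ := (Nat.dvd_prime_pow Nat.prime_two).mp hd
      obtain ⟨c, hc⟩ := htwo (Subgroup.zpowers g)
        (IsPGroup.of_card (p := 2) (n := i) (by rw [Nat.card_zpowers, he]))
      obtain ⟨s, hs⟩ := hc g (Subgroup.mem_zpowers g)
      have h8 : g ^ 8 = 1 := by
        have hs8 : s ^ 8 = 1 := hψinj _ _ (by rw [map_pow, inT_facts_eight.1 _ (hψinT s), map_one])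
        have h' := congrArg (fun x : S₀ => ((x : N) : G)) hs8
        simp only [Subgroup.coe_pow, Subgroup.coe_one] at h'
        rw [hs, conj_pow, conj_eq_one_iff] at h'
        exact h'
      have := Nat.le_of_dvd (by norm_num) (orderOf_dvd_of_pow_eq_one h8)
      rw [he] at this ⊢
      rcases (show i ≤ 3 ∨ i = 4 by omega) with hi' | rfl
      · interval_cases i <;> decide
      · norm_num at this
  -- elements of order 2
  obtain ⟨z₀, hz₀⟩ := exists_prime_orderOf_dvd_card' (G := G) 2 (by rw [hn]; norm_num)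
  have c2 : numOrder G 2 = 165 := by
    rw [numOrder, Nat.card_congr (Equiv.subtypeEquivRight (q := fun g => IsConj z₀ g) fun g =>
      ⟨fun h => hinvconj _ _ hz₀ h, fun h => by
        obtain ⟨a, rfl⟩ := isConj_iff.mp h
        exact (MulEquiv.orderOf_eq (MulAut.conj a) z₀).trans hz₀⟩), card_isConj]
    have h := Subgroup.card_mul_index (Subgroup.centralizer ({z₀} : Set G))
    rw [h48 z₀ hz₀, hn] at h
    omega
  -- elements of order 8
  obtain ⟨x₀, hx₀⟩ := hψsurj XMat inT_X.1
  set x : G := ((x₀ : N) : G) with hx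
  have hval : ∀ (s : S₀) (k : ℕ), (((s ^ k : S₀) : N) : G) = ((s : N) : G) ^ k := fun s k => by
    rw [Subgroup.coe_pow, Subgroup.coe_pow]
  have hx8 : orderOf x = 8 := by
    refine orderOf_eq_prime_pow (p := 2) (n := 2) ?_ ?_
    · intro h
      refine inT_X_pow.2.2.1 ?_
      rw [← hx₀, ← map_pow, show x₀ ^ 4 = 1 from Subtype.ext (Subtype.ext ((hval x₀ 4).trans h)), map_one]
    · have : x₀ ^ 8 = 1 := hψinj _ _ (by rw [map_pow, inT_facts_eight.1 _ (hψinT x₀), map_one])
      exact (hval x₀ 8).symm.trans (congrArg (fun w : S₀ => ((w : N) : G)) this)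
  -- the normalizer of a cyclic group of order 8 is a 2-group
  have hnorm8 : IsPGroup 2 (Subgroup.normalizer (Subgroup.zpowers x : Set G)) := by
    set M := Subgroup.normalizer (Subgroup.zpowers x : Set G) with hM
    have hexp : ∀ g ∈ M, ∃ i : ℕ, i < 8 ∧ g * x * g⁻¹ = x ^ i := by
      intro g hg
      have h1 : g * x * g⁻¹ ∈ Subgroup.zpowers x :=
        (Subgroup.mem_normalizer_iff.mp hg x).mp (Subgroup.mem_zpowers x)
      obtain ⟨i, hi⟩ := (mem_powers_iff_mem_zpowers.mpr h1 : _ ∈ Submonoid.powers x)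
      have e := pow_mod_orderOf x i
      rw [hx8] at e
      exact ⟨i % 8, Nat.mod_lt _ (by norm_num), hi.symm.trans e.symm⟩
    have hle : M ≤ Subgroup.centralizer ({x ^ 4} : Set G) := by
      intro g hg
      obtain ⟨i, hi, hgi⟩ := hexp g hg
      have hodd : i % 2 = 1 := by
        by_contra h
        have h1 : (g * x * g⁻¹) ^ 4 = 1 := by
          rw [hgi, ← pow_mul, show i * 4 = 8 * (i / 2) by omega, pow_mul, ← hx8, pow_orderOf_eq_one, one_pow]
        rw [conj_pow, conj_eq_one_iff] at h1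
        have := Nat.le_of_dvd (by norm_num) (orderOf_dvd_of_pow_eq_one h1)
        omega
      have h1 : (g * x * g⁻¹) ^ 4 = x ^ 4 := by
        rw [hgi, ← pow_mul, show i * 4 = 8 * (i / 2) + 4 by omega, pow_add, pow_mul, ← hx8, pow_orderOf_eq_one,
          one_pow, one_mul]
      rw [conj_pow] at h1
      exact Subgroup.mem_centralizer_singleton_iff.mpr (mul_inv_eq_iff_eq_mul.mp h1)
    have h3 : ¬ 3 ∣ Nat.card M := by
      intro hd
      obtain ⟨c, hc⟩ := exists_prime_orderOf_dvd_card' 3 hd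
      have hco : orderOf (c : G) = 3 := by rw [Subgroup.orderOf_coe, hc]
      obtain ⟨i, hi, hci⟩ := hexp c c.2
      have h27 := conj_pow_iter_aux hci
      rw [show (c : G) ^ 3 = 1 from hco ▸ pow_orderOf_eq_one _] at h27
      simp only [one_mul, inv_one, mul_one] at h27
      have h1 : i ^ 3 % 8 = 1 := by
        have := pow_eq_pow_iff_modEq.mp (h27.symm.trans (pow_one x).symm)
        rwa [hx8] at this
      have hi1 : i = 1 := (by decide : ∀ j < 8, j ^ 3 % 8 = 1 → j = 1) i hi h1
      rw [hi1, pow_one, mul_inv_eq_iff_eq_mul] at hci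
      have hx6 := h6 _ x hco (show x * (c : G) = (c : G) * x from hci.symm)
      have := orderOf_dvd_of_pow_eq_one hx6
      rw [hx8] at this
      norm_num at this
    have hd : Nat.card M ∣ 16 := by
      have h1 := Subgroup.card_dvd_of_le hle
      rw [h48 (x ^ 4) (by rw [orderOf_pow, hx8]; rfl)] at h1
      exact (((Nat.Prime.coprime_iff_not_dvd (by norm_num)).mpr h3).symm).dvd_of_dvd_mul_right
        (show Nat.card M ∣ 16 * 3 from h1)
    obtain ⟨i, -, he⟩ := (Nat.dvd_prime_pow Nat.prime_two).mp (show Nat.card M ∣ 2 ^ 4 from hd)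
    exact IsPGroup.of_card he
  obtain ⟨c₀, hc₀⟩ := htwo _ hnorm8
  obtain ⟨s₁, hs₁⟩ := hc₀ x (Subgroup.le_normalizer (Subgroup.mem_zpowers x))
  have hs₁4 : ψ s₁ ^ 4 ≠ 1 := by
    intro h
    have hs : s₁ ^ 4 = 1 := hψinj _ _ (by rw [map_pow, h, map_one])
    have h1 := (hval s₁ 4).symm.trans (congrArg (fun w : S₀ => ((w : N) : G)) hs)
    rw [hs₁, conj_pow] at h1
    have h1' : x ^ 4 = 1 := conj_eq_one_iff.mp h1
    have := Nat.le_of_dvd (by norm_num) (orderOf_dvd_of_pow_eq_one h1')
    omega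
  have hC8 : Nat.card (Subgroup.centralizer ({x} : Set G)) = 8 := by
    set C := Subgroup.centralizer ({x} : Set G) with hC
    have hle : C ≤ Subgroup.normalizer (Subgroup.zpowers x : Set G) := fun g hg =>
      mem_normalizer_zpowers (by
        rw [Subgroup.mem_centralizer_singleton_iff.mp hg, mul_inv_cancel_right]
        exact Subgroup.mem_zpowers x)
    have hxC : x ∈ C := Subgroup.mem_centralizer_singleton_iff.mpr rfl
    have h8 : 8 ∣ Nat.card C := hx8 ▸ Subgroup.orderOf_dvd_natCard _ hxC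
    let f : C → S₀ := fun g => (hc₀ g (hle g.2)).choose
    have hf : ∀ g, ((f g : N) : G) = c₀ * g * c₀⁻¹ := fun g => (hc₀ g (hle g.2)).choose_spec
    have hinj : Function.Injective f := fun a b h => Subtype.ext (mul_left_cancel (mul_right_cancel
      ((hf a).symm.trans ((congrArg (fun w : S₀ => ((w : N) : G)) h).trans (hf b)))))
    have hle16 : Nat.card C ≤ 16 := by
      have := Nat.card_le_card_of_injective f hinj
      rwa [hS₀] at this
    have hne : Nat.card C ≠ 16 := by
      intro h16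
      have hsurj := ((Nat.bijective_iff_injective_and_card f).mpr ⟨hinj, by rw [h16, hS₀]; rfl⟩).2
      obtain ⟨h, hh, hne'⟩ := inT_center _ (hψinT s₁) hs₁4
      obtain ⟨s, rfl⟩ := hψsurj h hh
      obtain ⟨g, rfl⟩ := hsurj s
      refine hne' ?_
      rw [← map_mul, ← map_mul]
      congr 1
      refine Subtype.ext (Subtype.ext ?_)
      show ((f g : N) : G) * ((s₁ : N) : G) = ((s₁ : N) : G) * ((f g : N) : G)
      rw [hf, hs₁, show c₀ * g * c₀⁻¹ * (c₀ * x * c₀⁻¹) = c₀ * (g * x) * c₀⁻¹ by group,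
        Subgroup.mem_centralizer_singleton_iff.mp g.2]
      group
    obtain ⟨k, hk⟩ := h8
    have := Nat.card_pos (α := C)
    omega
  have hnoinv : ¬ IsConj x (x ^ 7) := by
    intro h
    obtain ⟨g, hg⟩ := isConj_iff.mp h
    obtain ⟨s, hs⟩ := hc₀ g (mem_normalizer_zpowers (hg ▸ pow_mem (Subgroup.mem_zpowers x) 7))
    refine inT_no_inverting _ (hψinT s₁) hs₁4 _ (hψinT s) ?_
    rw [← map_pow, ← map_mul, ← map_mul]
    congr 1
    refine Subtype.ext (Subtype.ext ?_)
    show ((s : N) : G) * ((s₁ : N) : G) = (((s₁ ^ 7 : S₀) : N) : G) * ((s : N) : G)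
    rw [hval, hs, hs₁, conj_pow, ← hg]
    group
  have hclass8 : ∀ g : G, orderOf g = 8 ↔ IsConj x g ∨ IsConj (x ^ 7) g := by
    intro g
    constructor
    · intro hg
      obtain ⟨c, hc⟩ := htwo (Subgroup.zpowers g)
        (IsPGroup.of_card (p := 2) (n := 3) (by rw [Nat.card_zpowers, hg]; rfl))
      obtain ⟨s, hs⟩ := hc g (Subgroup.mem_zpowers g)
      have hs4 : ψ s ^ 4 ≠ 1 := by
        intro h
        have hs' : s ^ 4 = 1 := hψinj _ _ (by rw [map_pow, h, map_one])
        have h1 := (hval s 4).symm.trans (congrArg (fun w : S₀ => ((w : N) : G)) hs')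
        rw [hs, conj_pow] at h1
        have h1' : g ^ 4 = 1 := conj_eq_one_iff.mp h1
        have := Nat.le_of_dvd (by norm_num) (orderOf_dvd_of_pow_eq_one h1')
        omega
      obtain ⟨h, hh, e⟩ := inT_facts_eight.2 _ (hψinT s) hs4
      obtain ⟨u, rfl⟩ := hψsurj h hh
      have hconjg : IsConj ((s : N) : G) g := isConj_iff.mpr ⟨c⁻¹, by rw [hs]; group⟩
      rcases e with e | e
      · left
        refine IsConj.trans (isConj_iff.mpr ⟨((u : N) : G), ?_⟩) hconjg
        have e' : u * x₀ = s * u := hψinj _ _ (by rw [map_mul, map_mul, hx₀, e])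
        have e'' := congrArg (fun w : S₀ => ((w : N) : G)) e'
        simp only [Subgroup.coe_mul] at e''
        rw [e'', mul_inv_cancel_right]
      · right
        refine IsConj.trans (isConj_iff.mpr ⟨((u : N) : G), ?_⟩) hconjg
        have e' : u * x₀ ^ 7 = s * u := hψinj _ _ (by rw [map_mul, map_mul, map_pow, hx₀, e])
        have e'' := congrArg (fun w : S₀ => ((w : N) : G)) e'
        simp only [Subgroup.coe_mul, Subgroup.coe_pow] at e''
        rw [e'', mul_inv_cancel_right]
    · rintro (h | h) <;> obtain ⟨a, rfl⟩ := isConj_iff.mp h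
      · exact (MulEquiv.orderOf_eq (MulAut.conj a) x).trans hx8
      · refine (MulEquiv.orderOf_eq (MulAut.conj a) (x ^ 7)).trans ?_
        rw [orderOf_pow, hx8]; rfl
  have c8 : numOrder G 8 = 1980 := by
    have hcx : ∀ y : G, Nat.card (Subgroup.centralizer ({y} : Set G)) = 8 →
        Nat.card {g : G // IsConj y g} = 990 := by
      intro y hy
      rw [card_isConj]
      have h := Subgroup.card_mul_index (Subgroup.centralizer ({y} : Set G))
      rw [hy, hn] at h
      omega
    have hC8' : Nat.card (Subgroup.centralizer ({x ^ 7} : Set G)) = 8 := by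
      suffices heq : Subgroup.centralizer ({x ^ 7} : Set G) = Subgroup.centralizer ({x} : Set G) by rw [heq, hC8]
      refine SetLike.ext fun g => ?_
      rw [Subgroup.mem_centralizer_singleton_iff, Subgroup.mem_centralizer_singleton_iff]
      refine ⟨fun h => ?_, fun h => (Commute.pow_right (show Commute g x from h) 7).eq⟩
      have hx49 : (x ^ 7) ^ 7 = x := by
        rw [← pow_mul, show 7 * 7 = 8 * 6 + 1 by norm_num, pow_succ, pow_mul, ← hx8, pow_orderOf_eq_one,
          one_pow, one_mul]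
      have := (Commute.pow_right (show Commute g (x ^ 7) from h) 7).eq
      rwa [hx49] at this
    have key : Nat.card {g : G // orderOf g = 8} =
        Nat.card {g : G // IsConj x g} + Nat.card {g : G // IsConj (x ^ 7) g} := by
      rw [← Nat.card_sum]
      refine Nat.card_congr ((Equiv.subtypeEquivRight hclass8).trans
        (subtypeOrEquiv (fun g => IsConj x g) (fun g => IsConj (x ^ 7) g) ?_))
      rw [disjoint_iff_inf_le]
      exact fun g h => hnoinv ((h.1 : IsConj x g).trans (h.2 : IsConj (x ^ 7) g).symm)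
    rw [numOrder, key, hcx x hC8, hcx _ hC8']
  -- elements of order 6
  have c6 : numOrder G 6 = 1320 := by
    let E : Type u := Σ y : {g : G // orderOf g = 3}, {t : G // orderOf t = 2 ∧ Commute t y.1}
    have e : Nat.card {g : G // orderOf g = 6} = Nat.card E := by
      refine Nat.card_congr
        { toFun := fun g => ⟨⟨g.1 ^ 4, by rw [orderOf_pow, g.2]; rfl⟩, g.1 ^ 3,
            by rw [orderOf_pow, g.2]; rfl, (Commute.refl g.1).pow_pow 3 4⟩
          invFun := fun p => ⟨p.1.1 * p.2.1, ?_⟩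
          left_inv := fun g => Subtype.ext ?_
          right_inv := fun p => ?_ }
      · rw [Commute.orderOf_mul_eq_mul_orderOf_of_coprime p.2.2.2.symm (by rw [p.1.2, p.2.2.1]; norm_num),
          p.1.2, p.2.2.1]
      · show g.1 ^ 4 * g.1 ^ 3 = g.1
        rw [← pow_add, show 4 + 3 = 6 + 1 by norm_num, pow_succ,
          show g.1 ^ 6 = 1 by have := pow_orderOf_eq_one g.1; rwa [g.2] at this, one_mul]
      · obtain ⟨⟨y, hy⟩, t, ht, hc⟩ := p
        have h3 : y ^ 3 = 1 := hy ▸ pow_orderOf_eq_one y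
        have h2 : t ^ 2 = 1 := ht ▸ pow_orderOf_eq_one t
        have e4 : (y * t) ^ 4 = y := by
          rw [hc.symm.mul_pow, show t ^ 4 = (t ^ 2) ^ 2 by rw [← pow_mul], h2, one_pow, mul_one, pow_succ, h3,
            one_mul]
        have e3 : (y * t) ^ 3 = t := by rw [hc.symm.mul_pow, h3, one_mul, pow_succ, h2, one_mul]
        refine Sigma.subtype_ext ?_ ?_
        · exact Subtype.ext e4
        · exact e3
    have hfib : ∀ y : {g : G // orderOf g = 3}, Nat.card {t : G // orderOf t = 2 ∧ Commute t y.1} = 3 := by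
      rintro ⟨y, hy⟩
      obtain ⟨c, hcP, hcN⟩ := hcen3 y hy
      obtain ⟨a, ha⟩ := (F.mem_P _).mp hcP
      have ha0 : a ≠ 0 := fun e => by
        rw [e, F.v_zero, eq_comm, conj_eq_one_iff] at ha
        rw [ha, orderOf_one] at hy; omega
      obtain ⟨m, hm, hma, hm1⟩ := inT_fix a ha0
      obtain ⟨t₀, ht₀, ht₀o⟩ := F.exists_involution hm (inT_fix_sq a ha0 m hm hma) hm1
      refine Eq.trans ?_ (inT_fix_card a ha0 m hm hma hm1)
      rw [← Nat.card_eq_finsetCard]
      have ht₀2 : (t₀ : G) * t₀ = 1 := by rw [← pow_two, ← ht₀o, pow_orderOf_eq_one]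
      have ht₀i : (t₀ : G)⁻¹ = t₀ := inv_eq_of_mul_eq_one_right ht₀2
      refine (Nat.card_congr (Equiv.ofBijective
        (fun b : {b // b ∈ Finset.univ.filter fun b : V3 => m.mulVec b = -b} =>
          (⟨c⁻¹ * ((t₀ : G) * F.v b.1) * c, ?_, ?_⟩ : {t : G // orderOf t = 2 ∧ Commute t y})) ⟨?_, ?_⟩)).symm
      · have hb : m.mulVec b.1 = -b.1 := (Finset.mem_filter.mp b.2).2
        have h1 : (t₀ : G) * F.v b.1 * (t₀ : G)⁻¹ = (F.v b.1)⁻¹ := by rw [F.act, ht₀, hb, F.v_neg]
        have h2 : ((t₀ : G) * F.v b.1) * ((t₀ : G) * F.v b.1) = 1 := by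
          rw [show ((t₀ : G) * F.v b.1) * ((t₀ : G) * F.v b.1) =
            ((t₀ : G) * F.v b.1 * (t₀ : G)⁻¹) * ((t₀ : G) * t₀) * F.v b.1 by group, h1, ht₀2, mul_one,
            inv_mul_cancel]
        rw [show orderOf (c⁻¹ * ((t₀ : G) * F.v b.1) * c) = orderOf ((t₀ : G) * F.v b.1) by
          simpa using MulEquiv.orderOf_eq (MulAut.conj c⁻¹) ((t₀ : G) * F.v b.1)]
        refine orderOf_eq_prime (by rw [pow_two, h2]) fun e => hm1 ?_
        have : F.ρ t₀ = 1 := (F.eq_one _).mpr (by
          rw [eq_inv_of_mul_eq_one_left e]; exact inv_mem (F.v_mem _))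
        rw [← ht₀, this]
      · have h1 : Commute ((t₀ : G) * F.v b.1) (c * y * c⁻¹) := by
          refine Commute.mul_left ?_ (F.comm (F.v_mem _) hcP)
          have h := F.act t₀ a
          rw [ht₀, hma, ha] at h
          exact mul_inv_eq_iff_eq_mul.mp h
        show c⁻¹ * ((t₀ : G) * F.v b.1) * c * y = y * (c⁻¹ * ((t₀ : G) * F.v b.1) * c)
        calc c⁻¹ * ((t₀ : G) * F.v b.1) * c * y = c⁻¹ * (((t₀ : G) * F.v b.1) * (c * y * c⁻¹)) * c := by group
          _ = _ := by rw [h1.eq]; group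
      · intro b b' h
        have h' := mul_left_cancel (mul_right_cancel (congrArg Subtype.val h))
        exact Subtype.ext (F.v_inj (mul_left_cancel h'))
      · rintro ⟨t, hto, hty⟩
        set n : N := ⟨c * t * c⁻¹, hcN t hty⟩
        have hfix : (F.ρ n).mulVec a = a := F.v_inj (by
          rw [← F.act, ha]
          show c * t * c⁻¹ * (c * y * c⁻¹) * (c * t * c⁻¹)⁻¹ = c * y * c⁻¹
          rw [show c * t * c⁻¹ * (c * y * c⁻¹) * (c * t * c⁻¹)⁻¹ = c * (t * y) * t⁻¹ * c⁻¹ by group, hty.eq]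
          group)
        have hn2 : orderOf (n : G) = 2 := (MulEquiv.orderOf_eq (MulAut.conj c) t).trans hto
        have hne : F.ρ n ≠ 1 := by
          intro e
          have := F.cube ((F.eq_one n).mp e)
          have := orderOf_dvd_of_pow_eq_one this
          rw [hn2] at this
          norm_num at this
        have hρ := inT_fix_unique a ha0 m hm hma hm1 _ (F.inT n) hfix hne
        have hw : (t₀ : G)⁻¹ * n ∈ (F.P : Subgroup G) := (F.eq_one (t₀⁻¹ * n)).mp (by
          rw [map_mul, hρ, ← ht₀, ← map_mul, inv_mul_cancel, map_one])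
        obtain ⟨b, hb⟩ := (F.mem_P _).mp hw
        have hnn : (n : G) * n = 1 := by rw [← pow_two, ← hn2, pow_orderOf_eq_one]
        refine ⟨⟨b, Finset.mem_filter.mpr ⟨Finset.mem_univ _, F.v_inj ?_⟩⟩, Subtype.ext ?_⟩
        · rw [F.v_neg, ← ht₀, ← F.act, hb, mul_inv_rev, inv_inv, mul_inv_cancel_left,
            inv_eq_of_mul_eq_one_right hnn, ht₀i]
        · show c⁻¹ * ((t₀ : G) * F.v b) * c = t
          rw [hb, mul_inv_cancel_left]
          show c⁻¹ * (c * t * c⁻¹) * c = t
          group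
    rw [numOrder, e, Nat.card_sigma, Finset.sum_congr rfl (g := fun _ => 3) fun y _ => hfib y, Finset.sum_const,
      Finset.card_univ, ← Nat.card_eq_fintype_card, show Nat.card {g : G // orderOf g = 3} = 440 from c3]
    rfl
  -- elements of order 1 and 4
  have c1 : numOrder G 1 = 1 := by
    rw [numOrder, Nat.card_eq_one_iff_exists]
    exact ⟨⟨1, orderOf_one⟩, fun g => Subtype.ext (orderOf_eq_one_iff.mp g.2)⟩
  refine ⟨horders, c1, c2, c3, ?_, c5, c6, c8, c11⟩
  have hcard : ∀ n, numOrder G n = (Finset.univ.filter fun g : G => orderOf g = n).card := fun n => by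
    rw [numOrder, Nat.card_eq_fintype_card, Fintype.card_subtype]
  have htot := Finset.card_eq_sum_card_fiberwise (s := (Finset.univ : Finset G))
    (t := ({1, 2, 3, 4, 5, 6, 8, 11} : Finset ℕ)) (f := orderOf) fun g _ => horders g
  simp only [← hcard] at htot
  rw [Finset.card_univ, ← Nat.card_eq_fintype_card, hn] at htot
  simp only [Finset.sum_insert, Finset.mem_insert, Finset.mem_singleton, Finset.sum_singleton,
    Nat.reduceEqDiff, not_false_eq_true, or_self, c1, c2, c3, c5, c6, c8, c11] at htot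
  omega
where
  conj_pow_iter_aux {a b : G} {j : ℕ} (h : b * a * b⁻¹ = a ^ j) :
      b ^ 3 * a * (b ^ 3)⁻¹ = a ^ (j ^ 3) := by
    have h2 : ∀ k : ℕ, b * a ^ k * b⁻¹ = a ^ (j * k) := fun k => by rw [← conj_pow, h, pow_mul]
    rw [show b ^ 3 * a * (b ^ 3)⁻¹ = b * (b * (b * a * b⁻¹) * b⁻¹) * b⁻¹ by
      rw [pow_succ, pow_two]; group, h, h2, h2]
    ring_nf

end CfsgLib.M11Unique
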