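import Cfsg.Agent.Lib.M11Unique.Graph
import Cfsg.Agent.Lib.Golay.MathieuFacts
import Cfsg.Prelude.Def_Spor_Mathieu

/-!
# Groups of order 7920 with self-centralizing elements of orders 5 and 11
-/

set_option autoImplicit false
set_option linter.style.haveILetI false

namespace CfsgLib.M11Unique

open CfsgLib CfsgLib.BrauerTuan
open scoped Pointwise

universe u

variable {G : Type u} [Group G] [Finite G]

/-- An element with centralizer of prime order has that order and generates a Sylow subgroup. -/
theorem orderOf_eq_of_card_centralizer {p : ℕ} (hp : p.Prime) {x : G}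
    (h : Nat.card (Subgroup.centralizer ({x} : Set G)) = p) (hx : x ≠ 1) :
    orderOf x = p ∧ Subgroup.centralizer ({x} : Set G) = Subgroup.zpowers x := by
  have hmem : x ∈ Subgroup.centralizer ({x} : Set G) := Subgroup.mem_centralizer_singleton_iff.mpr rfl
  have hd := Subgroup.orderOf_dvd_natCard _ hmem
  rw [h] at hd
  have ho : orderOf x = p := (hp.eq_one_or_self_of_dvd _ hd).resolve_left fun e => hx (orderOf_eq_one_iff.mp e)
  exact ⟨ho, (Subgroup.eq_of_le_of_card_ge (Subgroup.zpowers_le.mpr hmem) (by rw [h, Nat.card_zpowers, ho])).symm⟩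

/-- An element of prime order with centralizer of that order acts without fixed points on a
normal subgroup avoiding it. -/
theorem card_normal_modEq_one {p : ℕ} [Fact p.Prime] {x : G}
    (h : Nat.card (Subgroup.centralizer ({x} : Set G)) = p) (hx : x ≠ 1) (N : Subgroup G) [N.Normal]
    (hN : ¬ p ∣ Nat.card N) : Nat.card N ≡ 1 [MOD p] := by
  obtain ⟨ho, hC⟩ := orderOf_eq_of_card_centralizer (Fact.out : p.Prime) h hx
  set A := Subgroup.zpowers (MulAut.conjNormal (H := N) x) with hA
  have hA' : IsPGroup p A := by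
    intro a
    refine ⟨1, ?_⟩
    obtain ⟨i, hi⟩ := Subgroup.mem_zpowers_iff.mp a.2
    refine Subtype.ext ?_
    rw [Subgroup.coe_pow, ← hi, pow_one, ← zpow_natCast, ← zpow_mul, mul_comm, zpow_mul, zpow_natCast,
      ← map_pow, ← ho, pow_orderOf_eq_one, map_one, one_zpow, Subgroup.coe_one]
  refine (hA'.card_modEq_card_fixedPoints N).trans ?_
  have huniv : Nat.card (MulAction.fixedPoints A N) = 1 := by
    refine Nat.card_eq_one_iff_exists.mpr ⟨⟨1, fun a => map_one (a : MulAut N)⟩, fun y => Subtype.ext ?_⟩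
    obtain ⟨y, hy⟩ := y
    have h1 : MulAut.conjNormal x y = y := hy ⟨MulAut.conjNormal x, Subgroup.mem_zpowers _⟩
    have h2 : x * (y : G) * x⁻¹ = y := by
      have := congrArg Subtype.val h1
      rwa [MulAut.conjNormal_apply] at this
    have h3 : (y : G) ∈ Subgroup.centralizer ({x} : Set G) :=
      Subgroup.mem_centralizer_singleton_iff.mpr (mul_inv_eq_iff_eq_mul.mp h2).symm
    have h4 := Subgroup.orderOf_dvd_natCard _ h3
    rw [h] at h4
    rcases (Fact.out : p.Prime).eq_one_or_self_of_dvd _ h4 with e | e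
    · exact Subtype.ext (orderOf_eq_one_iff.mp e)
    · exact absurd (e ▸ Subgroup.orderOf_dvd_natCard _ y.2) hN
  rw [huniv]

/-- The Sylow data of an element of prime order with centralizer of that order. -/
theorem sylow_of_centralizer {p : ℕ} [Fact p.Prime] {x : G}
    (h : Nat.card (Subgroup.centralizer ({x} : Set G)) = p) (hx : x ≠ 1) {m : ℕ}
    (hn : Nat.card G = p * m) (hm : ¬ p ∣ m) :
    ∃ P : Sylow p G, (P : Subgroup G) = Subgroup.zpowers x ∧
      Nat.card (Subgroup.centralizer ((P : Subgroup G) : Set G)) = p ∧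
      Nat.card (Subgroup.normalizer ((P : Subgroup G) : Set G)) ∣ p * (p - 1) := by
  obtain ⟨ho, hC⟩ := orderOf_eq_of_card_centralizer (Fact.out : p.Prime) h hx
  have hcard : Nat.card (Subgroup.zpowers x) = p ^ (Nat.card G).factorization p := by
    rw [Nat.card_zpowers, ho, hn, show p * m = p ^ 1 * m by rw [pow_one],
      factorization_pow_mul_7920 (Fact.out : p.Prime) hm, pow_one]
  refine ⟨Sylow.ofCard _ hcard, rfl, ?_⟩
  have hPC : Subgroup.centralizer ((Subgroup.zpowers x : Subgroup G) : Set G) =
      Subgroup.centralizer ({x} : Set G) := by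
    rw [Subgroup.zpowers_eq_closure, Subgroup.centralizer_closure]
  show Nat.card (Subgroup.centralizer ((Subgroup.zpowers x : Subgroup G) : Set G)) = p ∧
    Nat.card (Subgroup.normalizer ((Subgroup.zpowers x : Subgroup G) : Set G)) ∣ p * (p - 1)
  refine ⟨by rw [hPC, h], ?_⟩
  set P := Subgroup.zpowers x with hP
  have hker := Subgroup.card_mul_index (P.normalizerMonoidHom).ker
  rw [Subgroup.index_ker] at hker
  have h1 : Nat.card (P.normalizerMonoidHom).ker = p := by
    rw [Subgroup.normalizerMonoidHom_ker,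
      Nat.card_congr (Subgroup.subgroupOfEquivOfLe (Subgroup.centralizer_le_normalizer _)).toEquiv, hPC, h]
  have h2 : Nat.card (P.normalizerMonoidHom).range ∣ p - 1 := by
    refine (Subgroup.card_subgroup_dvd_card _).trans ?_
    rw [IsCyclic.card_mulAut, Nat.card_zpowers, ho, Nat.totient_prime (Fact.out : p.Prime)]
  rw [← hker, h1]
  exact Nat.mul_dvd_mul_left p h2

/-- **A group of order 7920 with self-centralizing elements of orders 5 and 11 is simple.** -/
theorem isSimpleGroup_of_centralizers (hn : Nat.card G = 7920) {x y : G}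
    (hx : Nat.card (Subgroup.centralizer ({x} : Set G)) = 5)
    (hy : Nat.card (Subgroup.centralizer ({y} : Set G)) = 11) : IsSimpleGroup G := by
  haveI : Fact (Nat.Prime 5) := ⟨by norm_num⟩
  haveI : Fact (Nat.Prime 11) := ⟨by norm_num⟩
  have hx1 : x ≠ 1 := by
    rintro rfl
    rw [show Subgroup.centralizer ({1} : Set G) = ⊤ from eq_top_iff.mpr fun g _ =>
      Subgroup.mem_centralizer_singleton_iff.mpr (by rw [mul_one, one_mul]), Subgroup.card_top, hn] at hx
    norm_num at hx
  have hy1 : y ≠ 1 := by
    rintro rfl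
    rw [show Subgroup.centralizer ({1} : Set G) = ⊤ from eq_top_iff.mpr fun g _ =>
      Subgroup.mem_centralizer_singleton_iff.mpr (by rw [mul_one, one_mul]), Subgroup.card_top, hn] at hy
    norm_num at hy
  obtain ⟨P, hPz, hPC, hPN⟩ := sylow_of_centralizer hx hx1 (m := 1584) (by rw [hn]) (by norm_num)
  obtain ⟨Q, hQz, hQC, hQN⟩ := sylow_of_centralizer hy hy1 (m := 720) (by rw [hn]) (by norm_num)
  have hPc : Nat.card (P : Subgroup G) = 5 := by
    rw [hPz, Nat.card_zpowers, (orderOf_eq_of_card_centralizer (by norm_num) hx hx1).1]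
  have hQc : Nat.card (Q : Subgroup G) = 11 := by
    rw [hQz, Nat.card_zpowers, (orderOf_eq_of_card_centralizer (by norm_num) hy hy1).1]
  have hP20 : (Subgroup.normalizer ((P : Subgroup G) : Set G)).index = 396 := by
    have h1 := Subgroup.card_mul_index (Subgroup.normalizer ((P : Subgroup G) : Set G))
    rw [hn] at h1
    have h2 : Nat.card (Sylow 5 G) % 5 = 1 := card_sylow_modEq_one 5 G
    rw [Sylow.card_eq_index_normalizer P] at h2
    have h5 : 5 ∣ Nat.card (Subgroup.normalizer ((P : Subgroup G) : Set G)) := by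
      have := Subgroup.card_dvd_of_le (Subgroup.le_normalizer (H := (P : Subgroup G)))
      rwa [hPc] at this
    obtain ⟨k, hk⟩ := h5
    rw [hk] at hPN h1
    have hk4 : k ∣ 4 := Nat.dvd_of_mul_dvd_mul_left (by norm_num : 0 < 5) hPN
    have : k ≤ 4 := Nat.le_of_dvd (by norm_num) hk4
    interval_cases k
    all_goals first | omega | (norm_num at hk4 h1 ⊢; omega)
  have hQ55 : (Subgroup.normalizer ((Q : Subgroup G) : Set G)).index = 144 := by
    have h1 := Subgroup.card_mul_index (Subgroup.normalizer ((Q : Subgroup G) : Set G))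
    rw [hn] at h1
    have h2 : Nat.card (Sylow 11 G) % 11 = 1 := card_sylow_modEq_one 11 G
    rw [Sylow.card_eq_index_normalizer Q] at h2
    have h5 : 11 ∣ Nat.card (Subgroup.normalizer ((Q : Subgroup G) : Set G)) := by
      have := Subgroup.card_dvd_of_le (Subgroup.le_normalizer (H := (Q : Subgroup G)))
      rwa [hQc] at this
    obtain ⟨k, hk⟩ := h5
    rw [hk] at hQN h1
    have hk4 : k ∣ 10 := Nat.dvd_of_mul_dvd_mul_left (by norm_num : 0 < 11) hQN
    have : k ≤ 10 := Nat.le_of_dvd (by norm_num) hk4
    interval_cases k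
    all_goals first | omega | (norm_num at hk4 h1 ⊢; omega)
  haveI : Nontrivial G := Finite.one_lt_card_iff_nontrivial.mp (by rw [hn]; norm_num)
  refine ⟨fun N hN => ?_⟩
  haveI := hN
  by_contra! hne
  obtain ⟨hbot, htop⟩ := hne
  -- a normal subgroup containing a Sylow subgroup contains all of them
  have hall : ∀ {p : ℕ} [Fact p.Prime] (S : Sylow p G), Nat.card (S : Subgroup G) = p → p ∣ Nat.card N →
      (S : Subgroup G) ≤ N ∧ Nat.card N = Nat.card ↥(N ⊓ Subgroup.normalizer ((S : Subgroup G) : Set G)) *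
        (Subgroup.normalizer ((S : Subgroup G) : Set G)).index := by
    intro p _ S hS hd
    obtain ⟨c, hc⟩ := exists_prime_orderOf_dvd_card' p hd
    have hco : orderOf (c : G) = p := by rw [Subgroup.orderOf_coe, hc]
    obtain ⟨T, hT⟩ := (IsPGroup.of_card (p := p) (n := 1)
      (by rw [Nat.card_zpowers, hco, pow_one] : Nat.card (Subgroup.zpowers (c : G)) = p ^ 1)).exists_le_sylow
    have hTz : (T : Subgroup G) = Subgroup.zpowers (c : G) := (Subgroup.eq_of_le_of_card_ge hT
      (by rw [Nat.card_zpowers, hco, T.card_eq_multiplicity, ← S.card_eq_multiplicity, hS])).symm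
    obtain ⟨g, hg⟩ := MulAction.exists_smul_eq G T S
    have hle : (S : Subgroup G) ≤ N := by
      intro s hs
      rw [← hg, Sylow.coe_subgroup_smul, Subgroup.mem_pointwise_smul_iff_inv_smul_mem] at hs
      have h1 : (MulAut.conj g)⁻¹ • s ∈ N := (Subgroup.zpowers_le.mpr c.2 : Subgroup.zpowers (c : G) ≤ N) (hTz ▸ hs)
      have h2 := hN.conj_mem _ h1 g
      simpa [mul_assoc] using h2
    refine ⟨hle, ?_⟩
    have hsup : N ⊔ Subgroup.normalizer ((S : Subgroup G) : Set G) = ⊤ := by
      rw [sup_comm]
      have := Sylow.normalizer_sup_eq_top' S hle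
      exact this
    have h1 := Subgroup.card_mul_index (N ⊓ Subgroup.normalizer ((S : Subgroup G) : Set G))
    have h2 := Subgroup.card_mul_index N
    have h3 := Subgroup.card_mul_index (Subgroup.normalizer ((S : Subgroup G) : Set G))
    set M := Subgroup.normalizer ((S : Subgroup G) : Set G)
    have h4 : (N.subgroupOf M).index = N.index := by
      rw [← Subgroup.relIndex, ← Subgroup.relIndex_sup_right, sup_comm, hsup, Subgroup.relIndex_top_right]
    have h5 := Subgroup.card_mul_index (N.subgroupOf M)
    rw [h4, ← Subgroup.inf_subgroupOf_right,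
      Nat.card_congr (Subgroup.subgroupOfEquivOfLe (inf_le_right : N ⊓ M ≤ M)).toEquiv] at h5
    have hpos : 0 < N.index := Nat.pos_of_ne_zero Subgroup.index_ne_zero_of_finite
    apply Nat.eq_of_mul_eq_mul_right hpos
    rw [h2, ← h3, ← h5]; ring
  by_cases h11 : 11 ∣ Nat.card N
  · obtain ⟨hle, hcard⟩ := hall Q hQc h11
    rw [hQ55] at hcard
    set M := Subgroup.normalizer ((Q : Subgroup G) : Set G) with hM
    have hd : Nat.card ↥(N ⊓ M) ∣ 55 := by
      have h1 := Subgroup.card_mul_index M
      rw [hQ55, hn] at h1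
      have : Nat.card M = 55 := by omega
      exact this ▸ Subgroup.card_dvd_of_le inf_le_right
    have h11' : 11 ∣ Nat.card ↥(N ⊓ M) := hQc ▸ Subgroup.card_dvd_of_le (le_inf hle Subgroup.le_normalizer)
    have hne55 : Nat.card ↥(N ⊓ M) ≠ 55 := fun e => htop (Subgroup.eq_top_of_card_eq N (by rw [hcard, e, hn]))
    have he : Nat.card ↥(N ⊓ M) = 11 := by
      obtain ⟨k, hk⟩ := h11'
      rw [hk] at hd hne55 ⊢
      have : k ∣ 5 := Nat.dvd_of_mul_dvd_mul_left (by norm_num : 0 < 11) hd
      rcases (Nat.dvd_prime (by norm_num)).mp this with rfl | rfl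
      · rfl
      · exact absurd rfl hne55
    have hNc : Nat.card N = 11 * 144 := by rw [hcard, he]
    -- transfer in `N`
    set QN : Sylow 11 N := Q.subtype hle
    have hQNn : Subgroup.normalizer ((QN : Subgroup N) : Set N) ≤
        Subgroup.centralizer ((QN : Subgroup N) : Set N) := by
      intro g hg
      have hgM : (g : G) ∈ N ⊓ M := ⟨g.2, by
        have : g ∈ (M).subgroupOf N := by
          rw [hM, Subgroup.subgroupOf_normalizer_eq hle]; exact hg
        exact this⟩
      have heq : (Q : Subgroup G) = N ⊓ M :=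
        Subgroup.eq_of_le_of_card_ge (le_inf hle Subgroup.le_normalizer) (by rw [he, hQc])
      rw [← heq] at hgM
      refine Subgroup.mem_centralizer_iff.mpr fun q hq => Subtype.ext ?_
      haveI : IsCyclic (Q : Subgroup G) := isCyclic_of_prime_card hQc
      have := congrArg Subtype.val
        ((IsCyclic.commGroup (α := (Q : Subgroup G))).mul_comm ⟨(q : G), hq⟩ ⟨g, hgM⟩)
      exact this
    have hcompl := MonoidHom.ker_transferSylow_isComplement' QN hQNn
    set K₀ := (MonoidHom.transferSylow QN hQNn).ker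
    have hK₀ : Nat.card K₀ = 144 := by
      have h1 := hcompl.card_mul_card
      have h2 : Nat.card (QN : Subgroup N) = 11 :=
        (Nat.card_congr (Subgroup.subgroupOfEquivOfLe hle).toEquiv).trans hQc
      rw [h2, hNc] at h1
      omega
    haveI : K₀.Characteristic := by
      refine Subgroup.characteristic_iff_map_le.mpr fun φ => ?_
      rintro _ ⟨w, hw, rfl⟩
      have hord : (orderOf (φ.toMonoidHom w)).Coprime 11 := by
        rw [show orderOf (φ.toMonoidHom w) = orderOf w from MulEquiv.orderOf_eq φ w]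
        exact Nat.Coprime.coprime_dvd_left (hK₀ ▸ Subgroup.orderOf_dvd_natCard _ hw) (by norm_num)
      show MonoidHom.transferSylow QN hQNn (φ.toMonoidHom w) = 1
      refine orderOf_eq_one_iff.mp (Nat.eq_one_of_dvd_coprimes hord (orderOf_map_dvd _ _) ?_)
      have := orderOf_dvd_natCard (MonoidHom.transferSylow QN hQNn (φ.toMonoidHom w))
      rwa [show Nat.card (QN : Subgroup N) = 11 from
        (Nat.card_congr (Subgroup.subgroupOfEquivOfLe hle).toEquiv).trans hQc] at this
    set K := K₀.map N.subtype
    haveI : K.Normal := ConjAct.normal_of_characteristic_of_normal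
    have hKc : Nat.card K = 144 := by rw [Subgroup.card_map_of_injective N.subtype_injective, hK₀]
    have := card_normal_modEq_one hx hx1 K (by rw [hKc]; norm_num)
    rw [hKc] at this
    exact absurd this (by decide)
  · by_cases h5 : 5 ∣ Nat.card N
    · obtain ⟨-, hcard⟩ := hall P hPc h5
      rw [hP20] at hcard
      exact h11 (hcard ▸ Dvd.dvd.mul_left (by norm_num) _)
    · have hd : Nat.card N ∣ 144 := by
        have h1 : Nat.card N ∣ 144 * (5 * 11) := by
          have := Subgroup.card_subgroup_dvd_card N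
          rwa [hn] at this
        exact (Nat.Coprime.mul_right ((Fact.out : Nat.Prime 5).coprime_iff_not_dvd.mpr h5).symm
          ((Fact.out : Nat.Prime 11).coprime_iff_not_dvd.mpr h11).symm).dvd_of_dvd_mul_right h1
      have m5 := card_normal_modEq_one hx hx1 N h5
      have m11 := card_normal_modEq_one hy hy1 N h11
      have hle := Nat.le_of_dvd (by norm_num) hd
      unfold Nat.ModEq at m5 m11
      have h1 : Nat.card N ≠ 1 := fun e => hbot (Subgroup.eq_bot_of_card_eq N e)
      have hpos := Nat.card_pos (α := N)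
      have : Nat.card N = 56 ∨ Nat.card N = 111 := by omega
      rcases this with e | e <;> rw [e] at hd <;> norm_num at hd

theorem card_spor : Nat.card Cfsg.Spor.M11 = 7920 ∧ IsSimpleGroup Cfsg.Spor.M11 := by
  have hsq : Cfsg.Spor.squareDodecad = Golay.dec 340831 := by
    rw [Cfsg.Spor.squareDodecad, Golay.qrWord_eq, Golay.support_wd]
    rfl
  let e := Golay.conjEquiv (K := Cfsg.Spor.M11) (inf_le_left.trans inf_le_left)
    (MulAction.stabilizer Cfsg.M24 (Golay.dec 340831) ⊓ MulAction.stabilizer Cfsg.M24 (Golay.pt 0))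
    (one_mem Cfsg.M24)
    fun x => by
      simp only [inv_one, one_mul, mul_one, Subgroup.mem_inf,
        Cfsg.Spor.M11, Cfsg.Spor.M12, MulAction.mem_stabilizer_iff, SetLike.coe_mem, true_and, hsq]
      rfl
  have hd : Golay.dec 340831 ∈ Cfsg.dodecads :=
    ⟨⟨Golay.wd 340831, Golay.wd_mem_of_inC (by decide +kernel), Golay.support_wd _⟩, by
      rw [Golay.card_dec_eq_pop]; decide +kernel⟩
  have hp : Golay.pt 0 ∈ Golay.dec 340831 := by rw [Golay.mem_dec]; decide +kernel
  haveI := Golay.isSimpleGroup_stab_dodecad_point hd hp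
  exact ⟨by rw [← Nat.card_congr e.toEquiv, Golay.natCard_stab_dodecad_point hd hp], e.symm.isSimpleGroup⟩

/-- A simple group of order 7920 is isomorphic to the Mathieu group `M₁₁`. -/
theorem nonempty_equiv_spor [IsSimpleGroup G] (hn : Nat.card G = 7920) :
    Nonempty (G ≃* Cfsg.Spor.M11) := by
  haveI := card_spor.2
  letI : Fintype G := Fintype.ofFinite G
  haveI : Finite Cfsg.Spor.M11 := Nat.finite_of_card_ne_zero (by rw [card_spor.1]; norm_num)
  letI : Fintype Cfsg.Spor.M11 := Fintype.ofFinite _
  obtain ⟨a⟩ := nonempty_equiv_of_card (G := G) hn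
  obtain ⟨b⟩ := nonempty_equiv_of_card card_spor.1
  exact ⟨a.trans b.symm⟩

end CfsgLib.M11Unique
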