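import Mathlib

/-!
# A Sylow 2-subgroup of GL(2, 3): the matrices commuting or anticommuting with a square root of -1
-/

set_option autoImplicit false
set_option maxRecDepth 8192
set_option synthInstance.maxSize 1024

namespace CfsgLib.M11Unique

/-- 2 by 2 matrices over the field of three elements -/
abbrev Mat3 : Type := Matrix (Fin 2) (Fin 2) (ZMod 3)

/-- the square root of minus one -/
def JMat : Mat3 := !![0, 2; 1, 0]

/-- the reflection -/
def RMat : Mat3 := !![1, 0; 0, 2]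

/-- an element of order eight -/
def XMat : Mat3 := !![1, 2; 1, 1]

/-- the semidihedral group of order sixteen, as a predicate -/
def InT (m : Mat3) : Prop := m.det ≠ 0 ∧ (m * JMat = JMat * m ∨ m * JMat = -(JMat * m))

instance : DecidablePred InT := fun m => by unfold InT; infer_instance

theorem inT_one : InT 1 := by decide +kernel

theorem inT_neg_one : InT (-1) := by decide +kernel

theorem inT_R : InT RMat ∧ RMat * RMat = 1 ∧ RMat ≠ 1 ∧ RMat ≠ -1 := by decide +kernel

theorem inT_X : InT XMat ∧ (XMat * XMat) * (XMat * XMat) = -1 := by decide +kernel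

theorem inT_mul {m m' : Mat3} (h : InT m) (h' : InT m') : InT (m * m') := by
  refine ⟨by rw [Matrix.det_mul]; exact mul_ne_zero h.1 h'.1, ?_⟩
  rcases h.2 with e | e <;> rcases h'.2 with e' | e'
  · left; rw [mul_assoc, e', ← mul_assoc, e, mul_assoc]
  · right; rw [mul_assoc, e', mul_neg, ← mul_assoc, e, mul_assoc]
  · right; rw [mul_assoc, e', ← mul_assoc, e, neg_mul, mul_assoc]
  · left; rw [mul_assoc, e', mul_neg, ← mul_assoc, e, neg_mul, neg_neg, mul_assoc]

theorem card_inT : Fintype.card {m : Mat3 // InT m} = 16 := by decide +kernel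

theorem inT_inv_exists : ∀ m : Mat3, InT m → ∃ m' : Mat3, InT m' ∧ m' * m = 1 ∧ m * m' = 1 := by
  decide +kernel

/-- involutions other than `-1` are conjugate to the reflection -/
theorem inT_refl_conj : ∀ m : Mat3, InT m → m * m = 1 → m ≠ 1 → m ≠ -1 →
    ∃ h : Mat3, InT h ∧ h * RMat = m * h := by decide +kernel

theorem inT_cen_R : ∀ m : Mat3, InT m → m * RMat = RMat * m → m * m = 1 := by decide +kernel

theorem inT_four_group : ∀ m : Mat3, InT m → m * m = 1 → m ≠ 1 → m ≠ -1 →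
    ∀ m' : Mat3, InT m' → m' * m' = 1 → m' * m = m * m' → m' = 1 ∨ m' = -1 ∨ m' = m ∨ m' = -m := by
  decide +kernel

theorem inT_transitive : ∀ v w : Fin 2 → ZMod 3, v ≠ 0 → w ≠ 0 →
    ∃ m : Mat3, InT m ∧ m.mulVec v = w ∧ (m = 1 ∨ m = -1 ∨ m * m = -1) := by decide +kernel

theorem inT_fix : ∀ v : Fin 2 → ZMod 3, v ≠ 0 → ∃ m : Mat3, InT m ∧ m.mulVec v = v ∧ m ≠ 1 := by
  decide +kernel

theorem neg_mulVec_fix : ∀ v : Fin 2 → ZMod 3, (-1 : Mat3).mulVec v = v → v = 0 := by decide +kernel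

theorem R_fix : RMat.mulVec ![1, 0] = ![1, 0] ∧ (![1, 0] : Fin 2 → ZMod 3) ≠ 0 := by decide +kernel

/-- the subgroup of `GL(2, 3)` -/
def sdGroup : Subgroup (GL (Fin 2) (ZMod 3)) where
  carrier := {g | InT (g : Mat3)}
  one_mem' := inT_one
  mul_mem' h h' := by
    show InT _
    rw [Units.val_mul]
    exact inT_mul h h'
  inv_mem' {g} h := by
    obtain ⟨m', hm', h1, -⟩ := inT_inv_exists _ h
    show InT _
    rw [Units.inv_eq_of_mul_eq_one_left (u := g) h1]
    exact hm'

theorem mem_sdGroup {g : GL (Fin 2) (ZMod 3)} : g ∈ sdGroup ↔ InT (g : Mat3) := Iff.rfl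

theorem card_sdGroup : Nat.card sdGroup = 16 := by
  rw [← card_inT, ← Nat.card_eq_fintype_card]
  refine Nat.card_congr (Equiv.ofBijective (fun g => (⟨((g : GL (Fin 2) (ZMod 3)) : Mat3), g.2⟩ : {m // InT m})) ⟨?_, ?_⟩)
  · exact fun a b h => Subtype.ext (Units.ext (congrArg Subtype.val h))
  · rintro ⟨m, hm⟩
    exact ⟨⟨Matrix.GeneralLinearGroup.mkOfDetNeZero m hm.1, hm⟩, rfl⟩

/-- the Sylow 2-subgroup -/
noncomputable def sdSylow : Sylow 2 (GL (Fin 2) (ZMod 3)) :=
  haveI : Fact (Nat.Prime 2) := ⟨Nat.prime_two⟩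
  Sylow.ofCard sdGroup (by
    rw [card_sdGroup, Matrix.card_GL_field]
    rw [show (∏ i : Fin 2, (Fintype.card (ZMod 3) ^ 2 - Fintype.card (ZMod 3) ^ (i : ℕ))) = 2 ^ 4 * 3 by
      simp [Fin.prod_univ_two],
      Nat.factorization_mul (by norm_num) (by norm_num), Finsupp.add_apply,
      Nat.Prime.factorization_pow Nat.prime_two, Finsupp.single_eq_same,
      Nat.factorization_eq_zero_of_not_dvd (by norm_num : ¬ 2 ∣ 3)]
    norm_num)

end CfsgLib.M11Unique

namespace CfsgLib.M11Unique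

theorem inT_cube : ∀ m : Mat3, InT m → m * m * m = 1 → m = 1 := by decide +kernel

theorem inT_ne_neg : ∀ m : Mat3, InT m → m ≠ -m := by decide +kernel

theorem inT_X_sq : XMat * XMat ≠ 1 ∧ XMat * XMat ≠ -1 ∧ (XMat * XMat) * (XMat * XMat) ≠ 1 := by
  decide +kernel

end CfsgLib.M11Unique

namespace CfsgLib.M11Unique

theorem inT_X_pow : XMat ^ 8 = 1 ∧ XMat ^ 9 = XMat ∧ XMat ^ 4 ≠ 1 ∧ XMat ^ 4 = -1 := by decide +kernel

end CfsgLib.M11Unique
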