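import Cfsg.Agent.Lib.M11Unique.TrivialIntersection

/-!
# The action of a simple group of order 7920 on its 55 Sylow 3-subgroups

The normalizer of a Sylow 3-subgroup has suborbits of lengths 18 and 36, with point stabilizers of
orders 8 and 4. The stabilizer of order 8 is found from the signs of the permutations.
-/

set_option autoImplicit false
set_option linter.style.haveILetI false

namespace CfsgLib.M11Unique

open CfsgLib CfsgLib.BrauerTuan

universe u

/-- Sign of a permutation whose orbits all have size `2 ^ (k + 1)`. -/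
theorem sign_of_free {α : Type*} [Fintype α] [DecidableEq α] (σ : Equiv.Perm α) (k : ℕ)
    (hpow : σ ^ 2 ^ (k + 1) = 1) (hfree : ∀ a, (σ ^ 2 ^ k) a ≠ a) :
    Equiv.Perm.sign σ = (-1 : ℤˣ) ^ (Fintype.card α + Fintype.card α / 2 ^ (k + 1)) := by
  have hsupp : σ.support = Finset.univ := Finset.eq_univ_of_forall fun a => by
    rw [Equiv.Perm.mem_support]
    intro h
    exact hfree a (Equiv.Perm.pow_apply_eq_self_of_apply_eq_self h _)
  have hall : ∀ n ∈ σ.cycleType, n = 2 ^ (k + 1) := by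
    intro n hn
    obtain ⟨i, hi, he⟩ := (Nat.dvd_prime_pow Nat.prime_two).mp
      ((Equiv.Perm.dvd_of_mem_cycleType hn).trans (orderOf_dvd_of_pow_eq_one hpow))
    by_contra hne
    have hik : i ≤ k := by
      rcases (show i ≤ k ∨ i = k + 1 by omega) with h | h
      · exact h
      · exact absurd (by rw [he, h]) hne
    rw [Equiv.Perm.cycleType_def, Multiset.mem_map] at hn
    obtain ⟨c, hc, hcn⟩ := hn
    obtain ⟨hcyc, -⟩ := Equiv.Perm.mem_cycleFactorsFinset_iff.mp hc
    obtain ⟨a, ha⟩ := hcyc.nonempty_support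
    have hca := Equiv.Perm.cycle_is_cycleOf ha hc
    have h1 : c ^ 2 ^ k = 1 := by
      rw [← orderOf_dvd_iff_pow_eq_one, hcyc.orderOf]
      rw [Function.comp_apply] at hcn
      rw [hcn, he]
      exact Nat.pow_dvd_pow 2 hik
    exact hfree a (by rw [← Equiv.Perm.cycleOf_pow_apply_self, ← hca, h1]; rfl)
  have hrep := Multiset.eq_replicate.mpr ⟨rfl, hall⟩
  have hsum : σ.cycleType.sum = Fintype.card α := by rw [Equiv.Perm.sum_cycleType, hsupp, Finset.card_univ]
  rw [Equiv.Perm.sign_of_cycleType, hsum]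
  congr 2
  rw [← hsum]
  conv_rhs => rw [hrep, Multiset.sum_replicate, smul_eq_mul, Nat.mul_div_cancel _ (by positivity)]

/-- Sign along an invariant predicate. -/
theorem sign_split {α : Type*} [Fintype α] [DecidableEq α] (σ : Equiv.Perm α) (p : α → Prop)
    [DecidablePred p] (h : ∀ x, p (σ x) ↔ p x) :
    Equiv.Perm.sign σ = Equiv.Perm.sign (σ.subtypePerm h) *
      Equiv.Perm.sign (σ.subtypePerm (p := fun x => ¬ p x) fun x => not_congr (h x)) := by
  rw [← Equiv.Perm.sign_subtypeCongr]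
  congr 1
  refine Equiv.ext fun x => ?_
  by_cases hx : p x
  · rw [Equiv.Perm.subtypeCongr.left_apply _ _ hx]; rfl
  · rw [Equiv.Perm.subtypeCongr.right_apply _ _ hx]; rfl

variable {G : Type u} [Group G]

/-- Adjacency: the common stabilizer has order 8. -/
def Adj (A B : Sylow 3 G) : Prop :=
  A ≠ B ∧ Nat.card ↥(MulAction.stabilizer G A ⊓ MulAction.stabilizer G B) = 8

theorem card_stab_smul (g : G) (A B : Sylow 3 G) :
    Nat.card ↥(MulAction.stabilizer G (g • A) ⊓ MulAction.stabilizer G (g • B)) =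
      Nat.card ↥(MulAction.stabilizer G A ⊓ MulAction.stabilizer G B) := by
  rw [MulAction.stabilizer_smul_eq_stabilizer_map_conj, MulAction.stabilizer_smul_eq_stabilizer_map_conj,
    ← Subgroup.map_inf _ _ _ (MulAut.conj g).injective]
  exact Nat.card_congr (Subgroup.equivMapOfInjective _ _ (MulAut.conj g).injective).toEquiv.symm

theorem adj_smul (g : G) (A B : Sylow 3 G) : Adj (g • A) (g • B) ↔ Adj A B := by
  rw [Adj, Adj, card_stab_smul, ne_eq, ne_eq, smul_left_cancel_iff]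

theorem adj_symm {A B : Sylow 3 G} (h : Adj A B) : Adj B A :=
  ⟨h.1.symm, by rw [inf_comm]; exact h.2⟩

theorem mem_stab_iff {g : G} {A : Sylow 3 G} :
    g ∈ MulAction.stabilizer G A ↔ g ∈ Subgroup.normalizer ((A : Subgroup G) : Set G) :=
  MulAction.mem_stabilizer_iff.trans Sylow.smul_eq_iff_mem_normalizer

theorem mem_smul_sylow {g y : G} {A : Sylow 3 G} (h : y ∈ (A : Subgroup G)) :
    g * y * g⁻¹ ∈ ((g • A : Sylow 3 G) : Subgroup G) := by
  rw [Sylow.coe_subgroup_smul]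
  exact Subgroup.smul_mem_pointwise_smul _ (MulAut.conj g) _ h

/-- The suborbit structure at a point. -/
structure Suborbits (G : Type u) [Group G] where
  /-- the point -/
  P : Sylow 3 G
  /-- first neighbour -/
  Q : Sylow 3 G
  /-- second neighbour -/
  Q' : Sylow 3 G
  /-- a non-neighbour -/
  R : Sylow 3 G
  comm : ∀ u ∈ (P : Subgroup G), ∀ v ∈ (P : Subgroup G), u * v = v * u
  smul_P : ∀ u ∈ (P : Subgroup G), u • P = P
  ne_Q : Q ≠ P
  inj_Q : ∀ u ∈ (P : Subgroup G), ∀ v ∈ (P : Subgroup G), u • Q = v • Q → u = v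
  inj_Q' : ∀ u ∈ (P : Subgroup G), ∀ v ∈ (P : Subgroup G), u • Q' = v • Q' → u = v
  disjoint : ∀ u ∈ (P : Subgroup G), ∀ v ∈ (P : Subgroup G), u • Q ≠ v • Q'
  swap : ∃ x : G, x • P = P ∧ x • Q = Q' ∧ x • Q' = Q
  transitive : ∀ u ∈ (P : Subgroup G), u ≠ 1 → ∀ v ∈ (P : Subgroup G), v ≠ 1 →
    ∃ d : G, d • P = P ∧ d • Q = Q ∧ d • Q' = Q' ∧ d * u * d⁻¹ = v
  cases : ∀ X, X ≠ P → (∃ u ∈ (P : Subgroup G), X = u • Q ∨ X = u • Q') ∨
    ∃ n : G, n • P = P ∧ X = n • R
  adj_iff : ∀ X, Adj P X ↔ ∃ u ∈ (P : Subgroup G), X = u • Q ∨ X = u • Q'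
  adj_QQ' : Adj Q Q'
  adj_cases : ∀ X, X ≠ P → Adj P X ∨ ∃ n : G, n • P = P ∧ X = n • R
  R_ne : R ≠ P
  not_adj_R : ¬ Adj P R
  card_sylow : Nat.card (Sylow 3 G) = 55
  card_P : Nat.card (P : Subgroup G) = 9

variable [Fintype G] [IsSimpleGroup G]

theorem exists_suborbits (hn : Nat.card G = 7920) : Nonempty (Suborbits G) := by
  classical
  haveI : Fact (Nat.Prime 3) := ⟨by norm_num⟩
  obtain ⟨F⟩ := exists_frame hn
  set N := Subgroup.normalizer ((F.P : Subgroup G) : Set G) with hN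
  have hNP : MulAction.stabilizer G F.P = N := Subgroup.ext fun g => mem_stab_iff
  have hsmulP : ∀ g : G, g • F.P = F.P ↔ g ∈ N := fun g => Sylow.smul_eq_iff_mem_normalizer
  have h55 : Nat.card (Sylow 3 G) = 55 := by
    have h := Subgroup.card_mul_index N
    rw [show N.index = Nat.card (Sylow 3 G) from (Sylow.card_eq_index_normalizer F.P).symm,
      show Nat.card N = 144 from normalizer_7920 hn F.P, hn] at h
    omega
  obtain ⟨z, hρz, hzo⟩ := F.exists_involution inT_neg_one (by simp) (fun h => inT_ne_neg 1 inT_one h.symm)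
  set z' : G := (z : G) with hz'
  have hz2 : z' * z' = 1 := by rw [← pow_two, ← hzo, pow_orderOf_eq_one]
  have hzi : z'⁻¹ = z' := inv_eq_of_mul_eq_one_right hz2
  have hzinv : ∀ y ∈ (F.P : Subgroup G), z' * y * z'⁻¹ = y⁻¹ := (F.inverts_iff z).mpr hρz
  set C := Subgroup.centralizer ({z'} : Set G) with hC
  have hmemC : ∀ g : G, g ∈ C ↔ g * z' = z' * g := fun g => Subgroup.mem_centralizer_singleton_iff
  set S := N ⊓ C with hS
  -- freeness
  have hfree : ∀ u ∈ (F.P : Subgroup G), ∀ X : Sylow 3 G, X ≠ F.P → u • X = X → u = 1 := by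
    intro u hu X hX h
    refine F.ti hn hX hu ?_
    have := F.P.2.inf_normalizer_sylow X
    have hmem : u ∈ (F.P : Subgroup G) ⊓ Subgroup.normalizer (X : Set G) :=
      ⟨hu, Sylow.smul_eq_iff_mem_normalizer.mp h⟩
    rw [this] at hmem
    exact hmem.2
  -- the complement `S`
  have hSinj : ∀ s t : N, (s : G) ∈ C → (t : G) ∈ C → F.ρ s = F.ρ t → s = t := by
    intro s t hs ht h
    have hmem : ((s⁻¹ * t : N) : G) ∈ (F.P : Subgroup G) := by
      refine (F.eq_one _).mp ?_
      rw [map_mul, ← h, ← map_mul, inv_mul_cancel, map_one]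
    have hc : ((s⁻¹ * t : N) : G) ∈ C := C.mul_mem (C.inv_mem hs) ht
    have hy := hzinv _ hmem
    rw [← (hmemC _).mp hc, mul_inv_cancel_right] at hy
    have : ((s⁻¹ * t : N) : G) = 1 := F.sq_one hmem (by nth_rewrite 2 [hy]; exact mul_inv_cancel _)
    exact inv_mul_eq_one.mp (Subtype.ext this)
  have hSsurj : ∀ m, InT m → ∃ s : N, (s : G) ∈ C ∧ F.ρ s = m := by
    intro m hm
    obtain ⟨n, hn'⟩ := F.surj m hm
    obtain ⟨w, hw, hwz⟩ := F.conj_of_same (s := n * z * n⁻¹) (t := z)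
      (by
        show (n : G) * z' * (n : G)⁻¹ * ((n : G) * z' * (n : G)⁻¹) = 1
        rw [show (n : G) * z' * (n : G)⁻¹ * ((n : G) * z' * (n : G)⁻¹) = (n : G) * (z' * z') * (n : G)⁻¹ by group,
          hz2]
        group)
      hz2 (by
        have h1 : F.ρ n * F.ρ n⁻¹ = 1 := by rw [← map_mul, mul_inv_cancel, map_one]
        rw [map_mul, map_mul, hρz, mul_neg_one, neg_mul, h1])
    refine ⟨⟨w, F.P_le hw⟩ * n, (hmemC _).mpr ?_, by rw [map_mul, (F.eq_one _).mpr hw, one_mul, hn']⟩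
    change w * ((n : G) * z' * (n : G)⁻¹) * w⁻¹ = z' at hwz
    show w * n * z' = z' * (w * n)
    conv_rhs => rw [← hwz]
    group
  have hScard : Nat.card S = 16 := by
    rw [← card_inT, ← Nat.card_eq_fintype_card]
    refine Nat.card_congr (Equiv.ofBijective
      (fun s : S => (⟨F.ρ ⟨s, s.2.1⟩, F.inT _⟩ : {m : Mat3 // InT m})) ⟨?_, ?_⟩)
    · intro s t h
      exact Subtype.ext (congrArg (fun x : N => (x : G))
        (hSinj ⟨s, s.2.1⟩ ⟨t, t.2.1⟩ s.2.2 t.2.2 (congrArg Subtype.val h)))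
    · rintro ⟨m, hm⟩
      obtain ⟨s, hs, rfl⟩ := hSsurj m hm
      exact ⟨⟨s, s.2, hs⟩, rfl⟩
  have hzS : z' ∈ S := ⟨z.2, (hmemC _).mpr rfl⟩
  -- fixed points of type one
  let Inv : Sylow 3 G → Prop := fun X => ∀ y ∈ (X : Subgroup G), z' * y * z'⁻¹ = y⁻¹
  have hInvsmul : ∀ c ∈ C, ∀ X, Inv X → Inv (c • X) := by
    intro c hc X hX y hy
    have hy' : c⁻¹ * y * c ∈ (X : Subgroup G) := by
      have := mem_smul_sylow (g := c⁻¹) hy
      rwa [inv_smul_smul, inv_inv] at this
    have h := hX _ hy'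
    have hcz := (hmemC c).mp hc
    calc z' * y * z'⁻¹ = c * (z' * (c⁻¹ * y * c) * z'⁻¹) * c⁻¹ := by
          rw [show c * (z' * (c⁻¹ * y * c) * z'⁻¹) * c⁻¹ = (c * z') * c⁻¹ * y * ((c * z') * c⁻¹)⁻¹ by group, hcz]
          group
      _ = y⁻¹ := by rw [h]; group
  have hInvP : Inv F.P := hzinv
  have horb3 : Nat.card (MulAction.orbit C F.P) = 3 := by
    have h := MulAction.card_orbit_mul_card_stabilizer_eq_card_group C F.P
    have hst : MulAction.stabilizer C F.P = N.subgroupOf C := by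
      ext c
      rw [MulAction.mem_stabilizer_iff, Subgroup.mem_subgroupOf, ← hsmulP]
      rfl
    rw [← Nat.card_eq_fintype_card, ← Nat.card_eq_fintype_card, ← Nat.card_eq_fintype_card, hst,
      ← Subgroup.inf_subgroupOf_right N C,
      Nat.card_congr (Subgroup.subgroupOfEquivOfLe (inf_le_right : N ⊓ C ≤ C)).toEquiv, hScard,
      show Nat.card C = 48 from (involution_7920 hn).1 z' hzo] at h
    omega
  set T3 := (MulAction.orbit C F.P).toFinset with hT3
  have hT3c : T3.card = 3 := by rw [hT3, Set.toFinset_card, ← Nat.card_eq_fintype_card, horb3]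
  obtain ⟨Q, Q', hQQ', hQs⟩ := Finset.card_eq_two.mp (show (T3.erase F.P).card = 2 by
    rw [Finset.card_erase_of_mem (by rw [hT3, Set.mem_toFinset]; exact MulAction.mem_orbit_self _), hT3c])
  have hQmem : ∀ X, (X = Q ∨ X = Q') ↔ X ≠ F.P ∧ ∃ c ∈ C, c • F.P = X := by
    intro X
    have : X ∈ T3.erase F.P ↔ X = Q ∨ X = Q' := by rw [hQs]; simp
    rw [← this, Finset.mem_erase, hT3, Set.mem_toFinset, MulAction.mem_orbit_iff]
    exact and_congr_right fun _ => ⟨fun ⟨c, hc⟩ => ⟨c, c.2, hc⟩, fun ⟨c, hc, h⟩ => ⟨⟨c, hc⟩, h⟩⟩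
  obtain ⟨hQP, cQ, hcQ, hcQ'⟩ := (hQmem Q).mp (Or.inl rfl)
  obtain ⟨hQ'P, cQ', hcQ₁, hcQ₁'⟩ := (hQmem Q').mp (Or.inr rfl)
  have hSpair : ∀ s ∈ S, ∀ X, (X = Q ∨ X = Q') → (s • X = Q ∨ s • X = Q') := by
    intro s hs X hX
    obtain ⟨hne, c, hc, hcX⟩ := (hQmem X).mp hX
    refine (hQmem _).mpr ⟨fun h => hne ?_, s * c, C.mul_mem hs.2 hc, by rw [mul_smul, hcX]⟩
    exact smul_left_cancel s (h.trans ((hsmulP s).mpr hs.1).symm)
  -- fixed points of type two
  obtain ⟨r, hρr, hro⟩ := F.exists_involution inT_R.1 inT_R.2.1 inT_R.2.2.1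
  obtain ⟨g, hg⟩ := isConj_iff.mp ((involution_7920 hn).2 _ _ hro hzo)
  set R := g • F.P with hR
  have hgr : z' * g = g * r := by rw [← hg]; group
  have hzR : z' • R = R := by
    rw [hR, ← mul_smul, hgr, mul_smul, (hsmulP r).mpr r.2]
  have hnotInv : ¬ Inv R := by
    intro h
    refine inT_R.2.2.2 (hρr ▸ (F.inverts_iff r).mp fun y hy => ?_)
    have h1 := h _ (mem_smul_sylow (g := g) hy)
    rw [← hg, show g * r * g⁻¹ * (g * y * g⁻¹) * (g * r * g⁻¹)⁻¹ = g * (r * y * (r : G)⁻¹) * g⁻¹ by group,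
      show (g * y * g⁻¹)⁻¹ = g * y⁻¹ * g⁻¹ by group] at h1
    exact mul_left_cancel (mul_right_cancel h1)
  have hstabR : ∀ s ∈ S, s • R = R → s * s = 1 := by
    intro s hs h
    have hn' : g⁻¹ * s * g ∈ N := by
      rw [← hsmulP, mul_smul, mul_smul, ← hR, h, hR, inv_smul_smul]
    have hc : (g⁻¹ * s * g) * r = r * (g⁻¹ * s * g) := by
      have hsz := (hmemC s).mp hs.2
      rw [← hg] at hsz
      calc (g⁻¹ * s * g) * r = g⁻¹ * (s * (g * r * g⁻¹)) * g := by group
        _ = r * (g⁻¹ * s * g) := by rw [hsz]; group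
    set n : N := ⟨_, hn'⟩
    have hρ : F.ρ n * F.ρ n = 1 := inT_cen_R _ (F.inT n) (by
      rw [← hρr, ← map_mul, ← map_mul]
      exact congrArg F.ρ (Subtype.ext hc))
    have hnn : (n : G) * n ∈ (F.P : Subgroup G) := (F.eq_one (n * n)).mp (by rw [map_mul, hρ])
    have h3 := F.cube hnn
    have hs16 : s ^ 16 = 1 := by
      have := Subgroup.orderOf_dvd_natCard S hs
      rw [hScard] at this
      exact orderOf_dvd_iff_pow_eq_one.mp this
    have hn16 : ((n : G) * n) ^ 8 = 1 := by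
      rw [← pow_two, ← pow_mul]
      show (g⁻¹ * s * g) ^ 16 = 1
      rw [show g⁻¹ * s * g = g⁻¹ * s * g⁻¹⁻¹ by group, conj_pow, hs16]; group
    have h1 : (n : G) * n = 1 := orderOf_eq_one_iff.mp (Nat.eq_one_of_dvd_coprimes
      (by norm_num : Nat.Coprime 3 8) (orderOf_dvd_of_pow_eq_one h3) (orderOf_dvd_of_pow_eq_one hn16))
    change g⁻¹ * s * g * (g⁻¹ * s * g) = 1 at h1
    calc s * s = g * (g⁻¹ * s * g * (g⁻¹ * s * g)) * g⁻¹ := by group
      _ = 1 := by rw [h1]; group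
  -- the orbit of `R` under `S`
  have horbR := MulAction.card_orbit_mul_card_stabilizer_eq_card_group S R
  rw [← Nat.card_eq_fintype_card, ← Nat.card_eq_fintype_card, ← Nat.card_eq_fintype_card, hScard] at horbR
  have hst4 : Nat.card (MulAction.stabilizer S R) ≤ 4 := by
    let f : MulAction.stabilizer S R → Mat3 := fun s => F.ρ ⟨((s : S) : G), (s : S).2.1⟩
    have hf : Function.Injective f := fun s t h => Subtype.ext (Subtype.ext
      (congrArg (fun x : N => (x : G)) (hSinj _ _ (s : S).2.2 (t : S).2.2 h)))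
    have hinv : ∀ s, f s * f s = 1 := by
      intro s
      show F.ρ _ * F.ρ _ = 1
      rw [← map_mul, F.eq_one]
      show ((s : S) : G) * (s : S) ∈ _
      rw [hstabR _ (s : S).2 (MulAction.mem_stabilizer_iff.mp s.2)]
      exact one_mem _
    have hcom : ∀ s t, f s * f t = f t * f s := by
      intro s t
      have h1 := hinv (s * t)
      have he : f (s * t) = f s * f t := map_mul F.ρ ⟨((s : S) : G), (s : S).2.1⟩ ⟨((t : S) : G), (t : S).2.1⟩
      rw [he] at h1
      calc f s * f t = f s * (f s * f t * (f s * f t)) * f t * (1 : Mat3) := by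
            rw [h1, mul_one, mul_one]
        _ = (f s * f s) * (f t * f s) * (f t * f t) := by simp only [mul_assoc, mul_one]
        _ = f t * f s := by rw [hinv, hinv, one_mul, mul_one]
    obtain ⟨B, hB, hBs⟩ : ∃ B : Finset Mat3, B.card ≤ 4 ∧ ∀ s, f s ∈ B := by
      by_cases hex : ∃ s, f s ≠ 1 ∧ f s ≠ -1
      · obtain ⟨s, h1, h2⟩ := hex
        refine ⟨{1, -1, f s, -f s}, Finset.card_le_four, fun t => ?_⟩
        simp only [Finset.mem_insert, Finset.mem_singleton]
        exact inT_four_group _ (F.inT _) (hinv s) h1 h2 _ (F.inT _) (hinv t) (hcom t s)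
      · push Not at hex
        refine ⟨{1, -1}, Finset.card_le_two.trans (by norm_num), fun t => ?_⟩
        simp only [Finset.mem_insert, Finset.mem_singleton]
        exact or_iff_not_imp_left.mpr (hex t)
    have := Finset.card_le_card_of_injOn (s := (Finset.univ : Finset (MulAction.stabilizer S R))) f
      (fun s _ => hBs s) (fun a _ b _ h => hf h)
    rw [Finset.card_univ, ← Nat.card_eq_fintype_card] at this
    omega
  set A4 := (MulAction.orbit S R).toFinset with hA4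
  have hA4c : A4.card = Nat.card (MulAction.orbit S R) := by
    rw [hA4, Set.toFinset_card, Nat.card_eq_fintype_card]
  have h4le : 4 ≤ A4.card := by
    rw [hA4c]
    by_contra h
    have := Nat.mul_le_mul (show Nat.card (MulAction.orbit S R) ≤ 3 by omega) hst4
    omega
  have hA4mem : ∀ X, X ∈ A4 → ∃ s ∈ S, s • R = X := fun X hX => by
    obtain ⟨s, hs⟩ := MulAction.mem_orbit_iff.mp (Set.mem_toFinset.mp hX)
    exact ⟨s, s.2, hs⟩
  have hA4inv : ∀ X ∈ A4, ¬ Inv X := by
    intro X hX h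
    obtain ⟨s, hs, rfl⟩ := hA4mem X hX
    have := hInvsmul s⁻¹ (C.inv_mem hs.2) _ h
    rw [inv_smul_smul] at this
    exact hnotInv this
  have hInvQ : Inv Q ∧ Inv Q' :=
    ⟨hcQ' ▸ hInvsmul _ hcQ _ hInvP, hcQ₁' ▸ hInvsmul _ hcQ₁ _ hInvP⟩
  set A := ({Q, Q'} : Finset (Sylow 3 G)) ∪ A4 with hA
  have hdisj : Disjoint ({Q, Q'} : Finset (Sylow 3 G)) A4 := by
    rw [Finset.disjoint_left]
    intro X hX hX'
    rcases Finset.mem_insert.mp hX with rfl | h
    · exact hA4inv _ hX' hInvQ.1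
    · exact hA4inv _ hX' (Finset.mem_singleton.mp h ▸ hInvQ.2)
  have hAc : A.card = 2 + A4.card := by rw [hA, Finset.card_union_of_disjoint hdisj, Finset.card_pair hQQ']
  have hAne : ∀ X ∈ A, X ≠ F.P := by
    intro X hX h
    rcases Finset.mem_union.mp hX with h' | h'
    · rcases Finset.mem_insert.mp h' with rfl | h''
      · exact hQP h
      · exact hQ'P ((Finset.mem_singleton.mp h'') ▸ h)
    · exact hA4inv X h' (h ▸ hInvP)
  have hzfix : ∀ X ∈ A, z' • X = X := by
    intro X hX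
    have hzP := (hsmulP z').mpr z.2
    rcases Finset.mem_union.mp hX with h' | h'
    · obtain ⟨-, c, hc, rfl⟩ := (hQmem X).mp (by simpa using h')
      rw [← mul_smul, ← (hmemC c).mp hc, mul_smul, hzP]
    · obtain ⟨s, hs, rfl⟩ := hA4mem X h'
      rw [← mul_smul, ← (hmemC s).mp hs.2, mul_smul, hzR]
  have huniq : ∀ u ∈ (F.P : Subgroup G), ∀ v ∈ (F.P : Subgroup G), ∀ X ∈ A, ∀ Y ∈ A,
      u • X = v • Y → u = v ∧ X = Y := by
    intro u hu v hv X hX Y hY h
    have hk : v⁻¹ * u ∈ (F.P : Subgroup G) := mul_mem (inv_mem hv) hu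
    have h1 : (v⁻¹ * u) • X = Y := by rw [mul_smul, h, inv_smul_smul]
    have h2 : (v⁻¹ * u)⁻¹ • X = Y := by
      have h3 := congrArg (z' • ·) h1
      simp only [← mul_smul, hzfix Y hY] at h3
      rw [show z' * (v⁻¹ * u) = z' * (v⁻¹ * u) * z'⁻¹ * z' by group, hzinv _ hk, mul_smul, hzfix X hX] at h3
      exact h3
    have h4 : (v⁻¹ * u * (v⁻¹ * u)) • X = X := by
      rw [mul_smul, h1, ← h2, ← mul_smul, mul_inv_cancel, one_smul]
    have h5 : v⁻¹ * u = 1 := F.sq_one hk (hfree _ (mul_mem hk hk) X (hAne X hX) h4)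
    rw [h5, one_smul] at h1
    exact ⟨(inv_mul_eq_one.mp h5).symm, h1⟩
  let Φ : ↥(F.P : Subgroup G) × A → {X : Sylow 3 G // X ≠ F.P} := fun p =>
    ⟨(p.1 : G) • (p.2 : Sylow 3 G), fun h => hAne _ p.2.2
      (smul_left_cancel (p.1 : G) (h.trans ((hsmulP _).mpr (F.P_le p.1.2)).symm))⟩
  have hΦ : Function.Injective Φ := by
    rintro ⟨u, X⟩ ⟨v, Y⟩ h
    obtain ⟨e1, e2⟩ := huniq u u.2 v v.2 X X.2 Y Y.2 (congrArg Subtype.val h)
    exact Prod.ext (Subtype.ext e1) (Subtype.ext e2)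
  have h54 : Nat.card {X : Sylow 3 G // X ≠ F.P} = 54 := by
    rw [Nat.card_eq_fintype_card, Fintype.card_subtype_compl, Fintype.card_subtype_eq,
      ← Nat.card_eq_fintype_card, h55]
  have hle : 9 * A.card ≤ 54 := by
    have := Nat.card_le_card_of_injective Φ hΦ
    rwa [Nat.card_prod, card_sylow_three hn F.P, Nat.card_eq_finsetCard, h54] at this
  have hA4' : A4.card = 4 := by omega
  have hsurj : ∀ X, X ≠ F.P → ∃ u ∈ (F.P : Subgroup G), ∃ Y ∈ A, X = u • Y := by
    intro X hX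
    obtain ⟨⟨u, Y⟩, h⟩ := ((Nat.bijective_iff_injective_and_card Φ).mpr ⟨hΦ, by
      rw [Nat.card_prod, card_sylow_three hn F.P, Nat.card_eq_finsetCard, h54, hAc, hA4']⟩).2 ⟨X, hX⟩
    exact ⟨u, u.2, Y, Y.2, (congrArg Subtype.val h).symm⟩
  set F7 := insert F.P A with hF7
  have hF7c : F7.card = 7 := by
    rw [hF7, Finset.card_insert_of_notMem fun h => hAne _ h rfl, hAc, hA4']
  have hF7mem : ∀ X, X ∈ F7 ↔ z' • X = X := by
    intro X
    constructor
    · intro h
      rcases Finset.mem_insert.mp h with rfl | h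
      · exact (hsmulP z').mpr z.2
      · exact hzfix X h
    · intro h
      by_cases hX : X = F.P
      · exact Finset.mem_insert.mpr (Or.inl hX)
      obtain ⟨u, hu, Y, hY, rfl⟩ := hsurj X hX
      refine Finset.mem_insert_of_mem ?_
      have h1 : u⁻¹ • Y = u • Y := by
        rw [← mul_smul, show z' * u = z' * u * z'⁻¹ * z' by group, hzinv u hu, mul_smul, hzfix Y hY] at h
        exact h
      obtain ⟨he, -⟩ := huniq _ (inv_mem hu) u hu Y hY Y hY h1
      rw [F.sq_one hu (by nth_rewrite 2 [← he]; exact mul_inv_cancel u), one_smul]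
      exact hY
  have hA4S : ∀ s ∈ S, ∀ X, X ∈ A4 ↔ s • X ∈ A4 := by
    intro s hs X
    simp only [hA4, Set.mem_toFinset]
    exact (MulAction.mem_orbit_iff.trans ⟨fun ⟨t, ht⟩ => MulAction.mem_orbit_iff.mpr
      ⟨⟨s, hs⟩ * t, by rw [mul_smul, ht]; rfl⟩, fun h => by
        obtain ⟨t, ht⟩ := MulAction.mem_orbit_iff.mp h
        exact ⟨⟨s, hs⟩⁻¹ * t, by rw [mul_smul, ht]; exact inv_smul_smul _ X⟩⟩)
  -- the sign argument
  have hcomm : ¬ IsMulCommutative G := SmallOrder.not_comm_of_not_prime (by rw [hn]; norm_num)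
  have hsign : ∀ (s : G) (k j : ℕ), s ∈ S → s ^ 2 ^ k = z' → j + 1 = k →
      ((s • Q = Q) ↔ (Even (4 + 4 / 2 ^ k) ↔ Even (48 + 48 / 2 ^ (k + 1)))) := by
    intro s k j hs hsk hjk
    set σ : Equiv.Perm (Sylow 3 G) := MulAction.toPermHom G (Sylow 3 G) s with hσ
    have hσa : ∀ X, σ X = s • X := fun X => rfl
    have hσpow : ∀ (i : ℕ) X, (σ ^ i) X = s ^ i • X := fun i X => by
      rw [hσ, ← map_pow]; rfl
    have hs1 : Equiv.Perm.sign σ = 1 :=
      SmallOrder.map_eq_one_of_comm hcomm (Equiv.Perm.sign.comp (MulAction.toPermHom G (Sylow 3 G))) s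
    have hinv7 : ∀ X, z' • σ X = σ X ↔ z' • X = X := by
      intro X
      rw [hσa, ← mul_smul, ← (hmemC s).mp hs.2, mul_smul, smul_left_cancel_iff]
    rw [sign_split σ (fun X => z' • X = X) hinv7] at hs1
    set τ := σ.subtypePerm (p := fun X => z' • X = X) hinv7 with hτ
    have hrest := sign_of_free (σ.subtypePerm (p := fun X => ¬ z' • X = X) fun X => not_congr (hinv7 X)) k
      (by
        refine Equiv.ext fun X => Subtype.ext ?_
        rw [Equiv.Perm.subtypePerm_pow]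
        show (σ ^ 2 ^ (k + 1)) X.1 = X.1
        rw [hσpow, pow_succ, pow_mul, hsk, pow_two, hz2, one_smul])
      (fun X h => X.2 ((by
        rw [Equiv.Perm.subtypePerm_pow] at h
        have := congrArg Subtype.val h
        change (σ ^ 2 ^ k) X.1 = X.1 at this
        rwa [hσpow, hsk] at this)))
    rw [hrest, Fintype.card_subtype_compl, Fintype.card_of_subtype F7 hF7mem, hF7c, ← Nat.card_eq_fintype_card, h55] at hs1
    have hinv4 : ∀ X : {X : Sylow 3 G // z' • X = X}, (τ X).1 ∈ A4 ↔ X.1 ∈ A4 := fun X => (hA4S s hs X.1).symm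
    rw [sign_split τ (fun X : {X : Sylow 3 G // z' • X = X} => X.1 ∈ A4) hinv4] at hs1
    have hA4F : ∀ X ∈ A4, z' • X = X := fun X hX => hzfix X (Finset.mem_union_right _ hX)
    have hc4 : Fintype.card {X : {X : Sylow 3 G // z' • X = X} // X.1 ∈ A4} = 4 := by
      rw [Fintype.card_congr (Equiv.subtypeSubtypeEquivSubtype fun {X} h => hA4F X h), Fintype.card_coe, hA4']
    have hfour := sign_of_free (τ.subtypePerm (p := fun X : {X : Sylow 3 G // z' • X = X} => X.1 ∈ A4) hinv4) j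
      (by
        refine Equiv.ext fun X => Subtype.ext (Subtype.ext ?_)
        rw [hjk, Equiv.Perm.subtypePerm_pow]
        show ((σ.subtypePerm (p := fun X => z' • X = X) hinv7 ^ 2 ^ k) X.1).1 = X.1.1
        rw [Equiv.Perm.subtypePerm_pow]
        show (σ ^ 2 ^ k) X.1.1 = X.1.1
        rw [hσpow, hsk]
        exact X.1.2)
      (fun X h => by
        rw [Equiv.Perm.subtypePerm_pow] at h
        have h' := congrArg (fun W : {X : {X : Sylow 3 G // z' • X = X} // X.1 ∈ A4} => W.1.1) h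
        change ((σ.subtypePerm (p := fun X => z' • X = X) hinv7 ^ 2 ^ j) X.1).1 = X.1.1 at h'
        rw [Equiv.Perm.subtypePerm_pow] at h'
        change (σ ^ 2 ^ j) X.1.1 = X.1.1 at h'
        rw [hσpow] at h'
        obtain ⟨t, ht, hX⟩ := hA4mem _ X.2
        rw [← hX, ← mul_smul] at h'
        have h2 := hstabR (t⁻¹ * s ^ 2 ^ j * t) (S.mul_mem (S.mul_mem (S.inv_mem ht) (S.pow_mem hs _)) ht)
          (by rw [mul_assoc, mul_smul, h', inv_smul_smul])
        have h3 : s ^ 2 ^ j * s ^ 2 ^ j = 1 := by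
          calc s ^ 2 ^ j * s ^ 2 ^ j = t * (t⁻¹ * s ^ 2 ^ j * t * (t⁻¹ * s ^ 2 ^ j * t)) * t⁻¹ := by group
            _ = 1 := by rw [h2]; group
        rw [← pow_add, ← two_mul, ← pow_succ', hjk, hsk] at h3
        rw [hz', ← orderOf_eq_one_iff] at h3
        rw [hzo] at h3
        omega)
    rw [hfour, hc4, hjk] at hs1
    set π := τ.subtypePerm (p := fun X : {X : Sylow 3 G // z' • X = X} => ¬ X.1 ∈ A4) fun X => not_congr (hinv4 X) with hπ
    have hπa : ∀ W, (π W).1.1 = s • W.1.1 := fun W => rfl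
    have hmemT : ∀ W : {X : {X : Sylow 3 G // z' • X = X} // ¬ X.1 ∈ A4}, W.1.1 = F.P ∨ W.1.1 = Q ∨ W.1.1 = Q' := by
      intro W
      rcases Finset.mem_insert.mp ((hF7mem _).mpr W.1.2) with h | h
      · exact Or.inl h
      · rcases Finset.mem_union.mp h with h' | h'
        · exact Or.inr (by simpa using h')
        · exact absurd h' W.2
    have hsP : s • F.P = F.P := (hsmulP s).mpr hs.1
    have hπsign : Equiv.Perm.sign π = if s • Q = Q then 1 else -1 := by
      split_ifs with hfix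
      · rw [show π = 1 from Equiv.ext fun W => Subtype.ext (Subtype.ext ?_), map_one]
        rw [hπa]
        rcases hmemT W with h | h | h <;> rw [Equiv.Perm.one_apply, h]
        · exact hsP
        · exact hfix
        · rcases hSpair s hs Q' (Or.inr rfl) with e | e
          · exact absurd (smul_left_cancel s (e.trans hfix.symm)) hQQ'.symm
          · exact e
      · have hQ'f : z' • Q' = Q' ∧ Q' ∉ A4 := ⟨hzfix Q' (Finset.mem_union_left _ (by simp)),
          fun h => hA4inv _ h hInvQ.2⟩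
        have hQf : z' • Q = Q ∧ Q ∉ A4 := ⟨hzfix Q (Finset.mem_union_left _ (by simp)),
          fun h => hA4inv _ h hInvQ.1⟩
        have e1 : s • Q = Q' := (hSpair s hs Q (Or.inl rfl)).resolve_left hfix
        have e2 : s • Q' = Q := (hSpair s hs Q' (Or.inr rfl)).resolve_right fun e =>
          hQQ'.symm (smul_left_cancel s (e.trans e1.symm))
        rw [show π = Equiv.swap ⟨⟨Q, hQf.1⟩, hQf.2⟩ ⟨⟨Q', hQ'f.1⟩, hQ'f.2⟩ from Equiv.ext fun W => ?_]
        · exact Equiv.Perm.sign_swap fun h => hQQ' (congrArg (fun W => W.1.1) h)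
        · obtain ⟨⟨X, hX⟩, hX'⟩ := W
          refine Subtype.ext (Subtype.ext ((hπa _).trans ?_))
          rcases hmemT ⟨⟨X, hX⟩, hX'⟩ with h | h | h <;> simp only at h <;> subst h
          · rw [Equiv.swap_apply_of_ne_of_ne (fun h => hQP (congrArg (fun W => W.1.1) h).symm)
              (fun h => hQ'P (congrArg (fun W => W.1.1) h).symm)]
            exact hsP
          · rw [Equiv.swap_apply_left]; exact e1
          · rw [Equiv.swap_apply_right]; exact e2
    rw [hπsign] at hs1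
    rw [show (55 - 7 : ℕ) = 48 by norm_num] at hs1
    by_cases hfix : s • Q = Q
    · rw [if_pos hfix, mul_one, ← pow_add] at hs1
      refine iff_of_true hfix (Nat.even_add.mp ?_)
      by_contra hodd
      rw [Nat.not_even_iff_odd] at hodd
      rw [hodd.neg_one_pow] at hs1
      exact absurd hs1 (by decide)
    · rw [if_neg hfix, mul_neg, mul_one, neg_mul, ← pow_add] at hs1
      refine iff_of_false hfix fun h => ?_
      rw [(Nat.even_add.mpr h).neg_one_pow] at hs1
      exact absurd hs1 (by decide)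
  -- elements of order four fix `Q`, elements of order eight do not
  have hj : ∀ s ∈ S, s * s = z' → s • Q = Q := by
    intro s hs h
    have := hsign s 1 0 hs (by rw [pow_one, pow_two]; exact h) rfl
    exact (this.mpr (by decide))
  obtain ⟨x, hxC, hρx⟩ := hSsurj XMat inT_X.1
  have hxS : (x : G) ∈ S := ⟨x.2, hxC⟩
  have hx4 : (x : G) ^ 4 = z' := by
    have := hSinj (x ^ 4) z (C.pow_mem hxC 4) ((hmemC _).mpr rfl) (by rw [map_pow, hρx, hρz, inT_X_pow.2.2.2])
    exact (Subgroup.coe_pow _ x 4).symm.trans (congrArg Subtype.val this)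
  have hxQ : (x : G) • Q ≠ Q := by
    intro h
    have := (hsign (x : G) 2 1 hxS hx4 rfl).mp h
    exact absurd this (by decide)
  have hxQQ' : (x : G) • Q = Q' := (hSpair _ hxS Q (Or.inl rfl)).resolve_left hxQ
  have hxQ'Q : (x : G) • Q' = Q := (hSpair _ hxS Q' (Or.inr rfl)).resolve_right fun h =>
    hQQ'.symm (smul_left_cancel (x : G) (h.trans hxQQ'.symm))
  -- two-point stabilizers
  have hstab : ∀ Y ∈ A, MulAction.stabilizer G F.P ⊓ MulAction.stabilizer G Y =
      (MulAction.stabilizer S Y).map S.subtype := by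
    intro Y hY
    ext n
    constructor
    · rintro ⟨hnP, hnY⟩
      rw [SetLike.mem_coe, hNP] at hnP
      have hzY := hzfix Y hY
      have hρ : F.ρ (⟨n, hnP⟩ * z * ⟨n, hnP⟩⁻¹ * z⁻¹) = 1 := by
        have h1 : F.ρ ⟨n, hnP⟩ * F.ρ ⟨n, hnP⟩⁻¹ = 1 := by rw [← map_mul, mul_inv_cancel, map_one]
        have h2 : F.ρ z * F.ρ z⁻¹ = 1 := by rw [← map_mul, mul_inv_cancel, map_one]
        rw [hρz, neg_one_mul] at h2
        rw [map_mul, map_mul, map_mul, hρz, mul_neg_one, neg_mul, h1, neg_one_mul, h2]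
      have hc : n * z' * n⁻¹ * z'⁻¹ = 1 := by
        refine hfree _ ((F.eq_one _).mp hρ) Y (hAne Y hY) ?_
        show (n * z' * n⁻¹ * z'⁻¹) • Y = Y
        have hnY' : n • Y = Y := hnY
        simp only [mul_smul]
        rw [inv_smul_eq_iff.mpr hzY.symm, inv_smul_eq_iff.mpr hnY'.symm, hzY, hnY']
      have hnS : n ∈ S := ⟨hnP, (hmemC n).mpr (by
        rw [mul_inv_eq_one, mul_inv_eq_iff_eq_mul] at hc; exact hc)⟩
      exact ⟨⟨n, hnS⟩, hnY, rfl⟩
    · rintro ⟨⟨n, hnS⟩, hnY, rfl⟩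
      exact ⟨(hsmulP n).mpr hnS.1, hnY⟩
  have hcardstab : ∀ Y ∈ A, Nat.card ↥(MulAction.stabilizer G F.P ⊓ MulAction.stabilizer G Y) =
      Nat.card (MulAction.stabilizer S Y) := fun Y hY => by
    rw [hstab Y hY, Subgroup.card_map_of_injective (Subgroup.subtype_injective _)]
  have horbQ : ∀ Y, (Y = Q ∨ Y = Q') → Nat.card (MulAction.stabilizer S Y) = 8 := by
    intro Y hY
    have h := MulAction.card_orbit_mul_card_stabilizer_eq_card_group S Y
    rw [← Nat.card_eq_fintype_card, ← Nat.card_eq_fintype_card, ← Nat.card_eq_fintype_card, hScard] at h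
    have horb : (MulAction.orbit S Y) = ({Q, Q'} : Set (Sylow 3 G)) := by
      ext X
      rw [MulAction.mem_orbit_iff, Set.mem_insert_iff, Set.mem_singleton_iff]
      constructor
      · rintro ⟨s, rfl⟩; exact hSpair s s.2 Y hY
      · intro hX
        rcases hY with rfl | rfl <;> rcases hX with rfl | rfl
        · exact ⟨1, one_smul _ _⟩
        · exact ⟨⟨x, hxS⟩, hxQQ'⟩
        · exact ⟨⟨x, hxS⟩, hxQ'Q⟩
        · exact ⟨1, one_smul _ _⟩
    rw [horb, Nat.card_coe_set_eq, Set.ncard_pair hQQ'] at h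
    omega
  have hQA : Q ∈ A ∧ Q' ∈ A := ⟨Finset.mem_union_left _ (by simp), Finset.mem_union_left _ (by simp)⟩
  have hRA4 : R ∈ A4 := Set.mem_toFinset.mpr (MulAction.mem_orbit_self R)
  have hRA : R ∈ A := Finset.mem_union_right _ hRA4
  have hR4 : Nat.card (MulAction.stabilizer S R) = 4 := by
    rw [← hA4c, hA4'] at horbR
    omega
  have hadjn : ∀ n : G, n • F.P = F.P → ¬ Adj F.P (n • R) := by
    intro n hn' h
    have := h.2
    rw [← hn', card_stab_smul, hcardstab R hRA, hR4] at this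
    omega
  have hadjQ : ∀ u ∈ (F.P : Subgroup G), ∀ Y, (Y = Q ∨ Y = Q') → Adj F.P (u • Y) := by
    intro u hu Y hY
    have hYA : Y ∈ A := by rcases hY with rfl | rfl <;> [exact hQA.1; exact hQA.2]
    have hu' := (hsmulP u).mpr (F.P_le hu)
    refine ⟨fun h => hAne Y hYA (smul_left_cancel u (h.symm.trans hu'.symm)), ?_⟩
    rw [← hu', card_stab_smul, hcardstab Y hYA, horbQ Y hY]
  have hcases : ∀ X, X ≠ F.P → (∃ u ∈ (F.P : Subgroup G), X = u • Q ∨ X = u • Q') ∨
      ∃ n : G, n • F.P = F.P ∧ X = n • R := by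
    intro X hX
    obtain ⟨u, hu, Y, hY, rfl⟩ := hsurj X hX
    rcases Finset.mem_union.mp hY with h | h
    · rcases Finset.mem_insert.mp h with rfl | h'
      · exact Or.inl ⟨u, hu, Or.inl rfl⟩
      · exact Or.inl ⟨u, hu, Or.inr (by rw [Finset.mem_singleton.mp h'])⟩
    · obtain ⟨s, hs, rfl⟩ := hA4mem Y h
      exact Or.inr ⟨u * s, by rw [mul_smul, (hsmulP s).mpr hs.1, (hsmulP u).mpr (F.P_le hu)],
        by rw [mul_smul]⟩
  have hadj : ∀ X, Adj F.P X ↔ ∃ u ∈ (F.P : Subgroup G), X = u • Q ∨ X = u • Q' := by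
    intro X
    constructor
    · intro h
      rcases hcases X h.1.symm with h' | ⟨n, hn', rfl⟩
      · exact h'
      · exact absurd h (hadjn n hn')
    · rintro ⟨u, hu, rfl | rfl⟩
      · exact hadjQ u hu Q (Or.inl rfl)
      · exact hadjQ u hu Q' (Or.inr rfl)
  have hfixQ' : ∀ s ∈ S, s • Q = Q → s • Q' = Q' := fun s hs h =>
    (hSpair s hs Q' (Or.inr rfl)).resolve_left fun e => hQQ'.symm (smul_left_cancel s (e.trans h.symm))
  refine ⟨⟨F.P, Q, Q', R, fun u hu v hv => F.comm hu hv, fun u hu => (hsmulP u).mpr (F.P_le hu), hQP,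
    fun u hu v hv h => (huniq u hu v hv Q hQA.1 Q hQA.1 h).1,
    fun u hu v hv h => (huniq u hu v hv Q' hQA.2 Q' hQA.2 h).1,
    fun u hu v hv h => hQQ' (huniq u hu v hv Q hQA.1 Q' hQA.2 h).2,
    ⟨x, (hsmulP _).mpr x.2, hxQQ', hxQ'Q⟩, ?_, hcases, hadj, ?_, ?_, hAne R hRA, ?_, h55,
    card_sylow_three hn F.P⟩⟩
  · intro u hu hu1 v hv hv1
    obtain ⟨a, rfl⟩ := (F.mem_P u).mp hu
    obtain ⟨b, rfl⟩ := (F.mem_P v).mp hv
    obtain ⟨m, hm, hmab, hcase⟩ := inT_transitive a b (fun h => hu1 (by rw [h, F.v_zero]))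
      (fun h => hv1 (by rw [h, F.v_zero]))
    obtain ⟨s, hsC, hρs⟩ := hSsurj m hm
    have hsS : (s : G) ∈ S := ⟨s.2, hsC⟩
    have hsQ : (s : G) • Q = Q := by
      rcases hcase with e | e | e
      · rw [hSinj s 1 hsC (by rw [Subgroup.coe_one]; exact one_mem C) (by rw [hρs, e, map_one]),
          Subgroup.coe_one, one_smul]
      · rw [hSinj s z hsC ((hmemC _).mpr rfl) (by rw [hρs, e, hρz])]
        exact hzfix Q hQA.1
      · exact hj _ hsS (congrArg Subtype.val
          (hSinj (s * s) z (C.mul_mem hsC hsC) ((hmemC _).mpr rfl) (by rw [map_mul, hρs, e, hρz])))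
    exact ⟨s, (hsmulP _).mpr s.2, hsQ, hfixQ' _ hsS hsQ, by rw [F.act, hρs, hmab]⟩
  · -- the edge `Q Q'`
    refine ⟨hQQ', ?_⟩
    have hle : MulAction.stabilizer G F.P ⊓ MulAction.stabilizer G Q ≤
        MulAction.stabilizer G Q ⊓ MulAction.stabilizer G Q' := by
      rw [hstab Q hQA.1]
      rintro _ ⟨s, hs, rfl⟩
      exact ⟨hs, hfixQ' _ s.2 hs⟩
    have h8 : 8 ≤ Nat.card ↥(MulAction.stabilizer G Q ⊓ MulAction.stabilizer G Q') := by
      have := Nat.card_le_card_of_injective (Subgroup.inclusion hle) (Subgroup.inclusion_injective hle)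
      rwa [hcardstab Q hQA.1, horbQ Q (Or.inl rfl)] at this
    obtain ⟨c, hc⟩ := MulAction.exists_smul_eq G Q F.P
    rw [← card_stab_smul c, hc] at h8 ⊢
    have hne : c • Q' ≠ F.P := fun h => hQQ' (smul_left_cancel c (hc.trans h.symm))
    rcases hcases _ hne with h | ⟨n, hn', h⟩
    · exact ((hadj _).mpr h).2
    · rw [h, ← hn', card_stab_smul, hcardstab R hRA, hR4] at h8
      omega
  · intro X hX
    rcases hcases X hX with h | h
    · exact Or.inl ((hadj X).mpr h)
    · exact Or.inr h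
  · have := hadjn 1 (one_smul _ _)
    rwa [one_smul] at this

end CfsgLib.M11Unique
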