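import Cfsg.Agent.Lib.M11Unique.Coord

/-!
# Sylow 3-subgroups of a simple group of order 7920 intersect trivially
-/

set_option autoImplicit false
set_option linter.style.haveILetI false

namespace CfsgLib.M11Unique

open CfsgLib CfsgLib.BrauerTuan

universe u

variable {G : Type u} [Group G]

namespace Frame

variable (F : Frame G)

local notation "NN" => Subgroup.normalizer ((F.P : Subgroup G) : Set G)

theorem v_mem (a : V3) : F.v a ∈ (F.P : Subgroup G) := (F.mem_P _).mpr ⟨a, rfl⟩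

theorem v_neg (a : V3) : F.v (-a) = (F.v a)⁻¹ :=
  eq_inv_of_mul_eq_one_left (by rw [← F.v_add, neg_add_cancel, F.v_zero])

theorem P_le : (F.P : Subgroup G) ≤ NN := Subgroup.le_normalizer

theorem cube {y : G} (hy : y ∈ (F.P : Subgroup G)) : y ^ 3 = 1 := by
  obtain ⟨a, rfl⟩ := (F.mem_P y).mp hy
  have h : a + a + a = 0 := by
    funext i
    exact (by decide : ∀ x : ZMod 3, x + x + x = 0) (a i)
  rw [pow_succ, pow_two, ← F.v_add, ← F.v_add, h, F.v_zero]

theorem comm {x y : G} (hx : x ∈ (F.P : Subgroup G)) (hy : y ∈ (F.P : Subgroup G)) : x * y = y * x := by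
  obtain ⟨a, rfl⟩ := (F.mem_P x).mp hx
  obtain ⟨b, rfl⟩ := (F.mem_P y).mp hy
  rw [← F.v_add, ← F.v_add, add_comm]

theorem sq_one {y : G} (hy : y ∈ (F.P : Subgroup G)) (h : y * y = 1) : y = 1 := by
  have h3 := F.cube hy
  rwa [pow_succ, pow_two, h, one_mul] at h3

theorem inverts_iff (n : NN) :
    (∀ y ∈ (F.P : Subgroup G), (n : G) * y * (n : G)⁻¹ = y⁻¹) ↔ F.ρ n = -1 := by
  constructor
  · intro h
    refine Matrix.ext_of_mulVec_single fun i => F.v_inj ?_
    rw [← F.act, h _ (F.v_mem _), ← F.v_neg, Matrix.neg_mulVec, Matrix.one_mulVec]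
  · intro h y hy
    obtain ⟨a, rfl⟩ := (F.mem_P y).mp hy
    rw [F.act, h, Matrix.neg_mulVec, Matrix.one_mulVec, F.v_neg]

theorem mem_of_pow_three (n : NN) (h : (n : G) ^ 3 ∈ (F.P : Subgroup G)) : (n : G) ∈ (F.P : Subgroup G) := by
  refine (F.eq_one n).mp (inT_cube _ (F.inT n) ?_)
  rw [← map_mul, ← map_mul, F.eq_one]
  simpa [pow_succ] using h

theorem exists_involution {m : Mat3} (hm : InT m) (h2 : m * m = 1) (h1 : m ≠ 1) :
    ∃ t : NN, F.ρ t = m ∧ orderOf (t : G) = 2 := by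
  obtain ⟨n, hn⟩ := F.surj m hm
  have hnn : (n : G) * n ∈ (F.P : Subgroup G) := (F.eq_one (n * n)).mp (by rw [map_mul, hn, h2])
  refine ⟨n ^ 9, ?_, orderOf_eq_prime ?_ ?_⟩
  · rw [map_pow, hn, show (9 : ℕ) = 2 * 4 + 1 by norm_num, pow_succ, pow_mul, pow_two, h2, one_pow, one_mul]
  · rw [Subgroup.coe_pow, ← pow_mul, mul_comm, pow_mul, pow_two, show (9 : ℕ) = 3 * 3 by norm_num,
      pow_mul, F.cube hnn, one_pow]
  · intro h
    refine h1 ?_
    have : F.ρ (n ^ 9) = 1 := (F.eq_one _).mpr (h ▸ one_mem _)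
    rwa [map_pow, hn, show (9 : ℕ) = 2 * 4 + 1 by norm_num, pow_succ, pow_mul, pow_two, h2, one_pow,
      one_mul] at this

theorem conj_of_same {s t : NN} (hs : (s : G) * s = 1) (ht : (t : G) * t = 1) (h : F.ρ s = F.ρ t) :
    ∃ w ∈ (F.P : Subgroup G), w * s * w⁻¹ = t := by
  have hw : (s : G) * t ∈ (F.P : Subgroup G) := (F.eq_one (s * t)).mp (by
    rw [map_mul, ← h, ← map_mul, F.eq_one]
    show (s : G) * s ∈ _
    rw [hs]; exact one_mem _)
  refine ⟨(s : G) * t, hw, ?_⟩
  have hsi : (s : G)⁻¹ = s := inv_eq_of_mul_eq_one_right hs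
  have hti : (t : G)⁻¹ = t := inv_eq_of_mul_eq_one_right ht
  have h3 := F.cube hw
  rw [mul_inv_rev, hsi, hti]
  calc (s : G) * t * s * ((t : G) * s) = (s : G) * t * (s * t) * ((s : G) * t) * ((t : G)⁻¹ * (s : G)⁻¹ * s) := by group
    _ = ((s : G) * t) ^ 3 * (t : G)⁻¹ := by rw [pow_succ, pow_two]; group
    _ = t := by rw [h3, one_mul, hti]

end Frame

theorem mem_normalizer_zpowers [Finite G] {g k : G} (h : g * k * g⁻¹ ∈ Subgroup.zpowers k) :
    g ∈ Subgroup.normalizer (Subgroup.zpowers k : Set G) := by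
  have hle : ∀ y ∈ Subgroup.zpowers k, g * y * g⁻¹ ∈ Subgroup.zpowers k := by
    intro y hy
    obtain ⟨i, rfl⟩ := Subgroup.mem_zpowers_iff.mp hy
    rw [← conj_zpow]
    exact zpow_mem h i
  refine Subgroup.mem_normalizer_iff.mpr fun y => ⟨hle y, fun hy => ?_⟩
  obtain ⟨a, ha⟩ := Finite.surjective_of_injective
    (f := fun a : Subgroup.zpowers k => (⟨g * a * g⁻¹, hle a a.2⟩ : Subgroup.zpowers k))
    (fun a b hab => Subtype.ext (mul_left_cancel (mul_right_cancel (congrArg Subtype.val hab)))) ⟨_, hy⟩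
  exact (mul_left_cancel (mul_right_cancel (congrArg Subtype.val ha)) : (a : G) = y) ▸ a.2

variable [Fintype G] [IsSimpleGroup G]

theorem Frame.ti (F : Frame G) (hn : Nat.card G = 7920) {Q : Sylow 3 G} (hQP : Q ≠ F.P) {k : G}
    (hkP : k ∈ (F.P : Subgroup G)) (hkQ : k ∈ (Q : Subgroup G)) : k = 1 := by
  classical
  haveI : Fact (Nat.Prime 3) := ⟨by norm_num⟩
  haveI : Fact (Nat.Prime 2) := ⟨Nat.prime_two⟩
  by_contra hk1
  set N := Subgroup.normalizer ((F.P : Subgroup G) : Set G) with hN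
  set Y := Subgroup.zpowers k with hY
  have hko : orderOf k = 3 := orderOf_eq_prime (F.cube hkP) hk1
  have hYc : Nat.card Y = 3 ^ 1 := by rw [hY, Nat.card_zpowers, hko, pow_one]
  have hyY : ∀ y ∈ Y, y = 1 ∨ y = k ∨ y = k⁻¹ := by
    intro y hy
    obtain ⟨i, rfl⟩ := Subgroup.mem_zpowers_iff.mp hy
    rw [← zpow_mod_orderOf, hko]
    have hj : i % 3 = 0 ∨ i % 3 = 1 ∨ i % 3 = 2 := by omega
    rcases hj with e | e | e <;> push_cast <;> rw [e]
    · exact Or.inl (zpow_zero k)
    · exact Or.inr (Or.inl (zpow_one k))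
    · right; right
      rw [eq_inv_iff_mul_eq_one, show k ^ (2 : ℤ) * k = k ^ 3 by group, F.cube hkP]
  set M := Subgroup.normalizer (Y : Set G) with hM
  have hPM : (F.P : Subgroup G) ≤ M := fun y hy => mem_normalizer_zpowers (by
    rw [F.comm hy hkP, mul_inv_cancel_right]; exact Subgroup.mem_zpowers k)
  have hQM : (Q : Subgroup G) ≤ M := fun y hy => by
    haveI : IsMulCommutative (Q : Subgroup G) :=
      IsPGroup.isMulCommutative_of_card_eq_prime_sq (p := 3) (card_sylow_three hn Q)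
    refine mem_normalizer_zpowers ?_
    rw [show y * k = k * y from congrArg Subtype.val
      ((inferInstance : IsMulCommutative (Q : Subgroup G)).is_comm.comm ⟨y, hy⟩ ⟨k, hkQ⟩),
      mul_inv_cancel_right]
    exact Subgroup.mem_zpowers k
  -- four cosets of `P` in `M ⊓ N`
  obtain ⟨a, ha⟩ := (F.mem_P k).mp hkP
  have ha0 : a ≠ 0 := fun h => hk1 (by rw [← ha, h, F.v_zero])
  obtain ⟨m, hmT, hma, hm1⟩ := inT_fix a ha0
  obtain ⟨n, hρn⟩ := F.surj m hmT
  obtain ⟨z, hρz, -⟩ := F.exists_involution inT_neg_one (by simp) (by decide +kernel)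
  have hnM : (n : G) ∈ M := mem_normalizer_zpowers (by
    rw [← ha, F.act, hρn, hma]; exact Subgroup.mem_zpowers _)
  have hzM : (z : G) ∈ M := mem_normalizer_zpowers (by
    rw [(F.inverts_iff z).mpr hρz k hkP]; exact inv_mem (Subgroup.mem_zpowers k))
  have hm' : m ≠ -1 := fun h => ha0 (neg_mulVec_fix a (h ▸ hma))
  have h36 : 36 ≤ Nat.card ↥(M ⊓ N) := by
    let W : Fin 4 → N := ![1, z, n, z * n]
    have hWM : ∀ i, (W i : G) ∈ M := by
      intro i; fin_cases i
      · exact one_mem M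
      · exact hzM
      · exact hnM
      · exact mul_mem hzM hnM
    have hWρ : Function.Injective fun i => F.ρ (W i) := by
      have e : (fun i => F.ρ (W i)) = ![1, -1, m, -m] := by
        funext i; fin_cases i
        · exact map_one F.ρ
        · exact hρz
        · exact hρn
        · show F.ρ (z * n) = -m
          rw [map_mul, hρz, hρn, neg_one_mul]
      rw [e]
      have hne := inT_ne_neg m hmT
      have h11 : (1 : Mat3) ≠ -1 := inT_ne_neg 1 inT_one
      have hn1 : -m ≠ 1 := fun h => hm' (by rw [← h, neg_neg])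
      have hn1' : (-1 : Mat3) ≠ -m := fun h => hm1 (neg_injective h).symm
      intro i j h
      fin_cases i <;> fin_cases j <;> simp at h <;> first
        | rfl | exact absurd h h11 | exact absurd h.symm h11 | exact absurd h hm1 | exact absurd h.symm hm1
        | exact absurd h hm' | exact absurd h.symm hm' | exact absurd h hn1 | exact absurd h.symm hn1
        | exact absurd h hne | exact absurd h.symm hne | exact absurd h hn1' | exact absurd h.symm hn1'
    have hinj : Function.Injective fun p : ↥(F.P : Subgroup G) × Fin 4 =>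
        (⟨(p.1 : G) * W p.2, mul_mem (hPM p.1.2) (hWM p.2), mul_mem (F.P_le p.1.2) (W p.2).2⟩ : ↥(M ⊓ N)) := by
      rintro ⟨p, i⟩ ⟨q, j⟩ h
      have h' : (p : G) * W i = (q : G) * W j := congrArg Subtype.val h
      have hρ : F.ρ (⟨p, F.P_le p.2⟩ * W i) = F.ρ (⟨q, F.P_le q.2⟩ * W j) := congrArg F.ρ (Subtype.ext h')
      rw [map_mul, map_mul, (F.eq_one ⟨p, F.P_le p.2⟩).mpr p.2, (F.eq_one ⟨q, F.P_le q.2⟩).mpr q.2, one_mul, one_mul] at hρ
      obtain rfl := hWρ hρ
      exact Prod.ext (Subtype.ext (mul_right_cancel h')) rfl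
    have := Nat.card_le_card_of_injective _ hinj
    rw [Nat.card_prod, card_sylow_three hn F.P, Nat.card_eq_fintype_card, Fintype.card_fin] at this
    exact this
  have hMd : Nat.card M ∣ 144 := normalizer_dvd_144 hn le_rfl (by norm_num) hYc
  set PM : Sylow 3 M := F.P.subtype hPM
  set H := N.subgroupOf M with hH
  have hPMn : Subgroup.normalizer (PM : Set M) = H := by
    show Subgroup.normalizer (((F.P : Subgroup G).subgroupOf M : Subgroup M) : Set M) = _
    exact (Subgroup.subgroupOf_normalizer_eq hPM).symm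
  have hHc : Nat.card H = Nat.card ↥(M ⊓ N) := by
    rw [hH, ← Subgroup.inf_subgroupOf_left N M,
      Nat.card_congr (Subgroup.subgroupOfEquivOfLe (inf_le_left : M ⊓ N ≤ M)).toEquiv]
  have hns : Nat.card (Sylow 3 M) * Nat.card ↥(M ⊓ N) = Nat.card M := by
    rw [Sylow.card_eq_index_normalizer PM, hPMn, ← hHc, mul_comm, Subgroup.card_mul_index]
  have hns1 : Nat.card (Sylow 3 M) ≠ 1 := by
    intro h1
    haveI := (Nat.card_eq_one_iff_unique.mp h1).1
    have := congrArg (fun S : Sylow 3 M => (S : Subgroup M)) (Subsingleton.elim PM (Q.subtype hQM))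
    simp only [PM, Sylow.coe_subtype, Subgroup.subgroupOf_inj, inf_eq_left.mpr hPM, inf_eq_left.mpr hQM] at this
    exact hQP (Sylow.ext this.symm)
  have hmod : Nat.card (Sylow 3 M) % 3 = 1 := card_sylow_modEq_one 3 M
  have hMle := Nat.le_of_dvd (by norm_num) hMd
  have hn4 : Nat.card (Sylow 3 M) = 4 ∧ Nat.card M = 144 ∧ H.index = 4 := by
    have h4 : 4 ≤ Nat.card (Sylow 3 M) := by omega
    have hmul := Nat.mul_le_mul h4 h36
    have h5 : Nat.card (Sylow 3 M) ≤ 4 := by
      by_contra h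
      have := Nat.mul_le_mul (show 5 ≤ Nat.card (Sylow 3 M) by omega) h36
      omega
    have h6 : Nat.card (Sylow 3 M) = 4 := by omega
    have h7 : Nat.card M = 144 := by omega
    refine ⟨h6, h7, ?_⟩
    rw [← hPMn, ← Sylow.card_eq_index_normalizer PM, h6]
  obtain ⟨-, hM144, hidx⟩ := hn4
  -- the kernel of the action on four points
  set K := H.normalCore with hK
  have hKH : K ≤ H := Subgroup.normalCore_le H
  haveI : K.Normal := Subgroup.normalCore_normal H
  have hK2 : 2 ∣ Nat.card K := by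
    have h1 := Subgroup.card_mul_index K
    have h2 : K.index ∣ 24 := by
      rw [hK, Subgroup.normalCore_eq_ker, Subgroup.index_ker]
      refine (Subgroup.card_subgroup_dvd_card _).trans ?_
      rw [Nat.card_perm, ← Subgroup.index_eq_card, hidx]
      rfl
    obtain ⟨c, hc⟩ := h2
    rw [hM144] at h1
    have : Nat.card K = 6 * c := by
      have h3 : Nat.card K * K.index = 6 * c * K.index := by rw [h1, mul_assoc, mul_comm c, ← hc]; norm_num
      exact Nat.eq_of_mul_eq_mul_right (Nat.pos_of_ne_zero Subgroup.index_ne_zero_of_finite) h3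
    exact ⟨3 * c, by omega⟩
  have hKN : ∀ w ∈ K, (w : G) ∈ N := fun w hw => Subgroup.mem_subgroupOf.mp (hKH hw)
  -- `K` meets `P` in `Y`
  have hYK : ∀ w : M, (w : G) ∈ Y → w ∈ K := by
    haveI : (Y.subgroupOf M).Normal := Subgroup.normal_in_normalizer
    have : Y.subgroupOf M ≤ K := Subgroup.normal_le_normalCore.mpr fun w hw =>
      Subgroup.mem_subgroupOf.mpr (F.P_le (Subgroup.zpowers_le.mpr hkP (Subgroup.mem_subgroupOf.mp hw)))
    exact fun w hw => this (Subgroup.mem_subgroupOf.mpr hw)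
  have hKP : ∀ w ∈ K, (w : G) ∈ (F.P : Subgroup G) → (w : G) ∈ Y := by
    intro w hw hwP
    by_contra hwY
    -- otherwise `P` lies in `K`, hence is normal in `M`
    set U := K.map M.subtype ⊓ (F.P : Subgroup G) with hU
    have hYU : Y ≤ U := fun y hy => by
      have hyP : y ∈ (F.P : Subgroup G) := Subgroup.zpowers_le.mpr hkP hy
      exact ⟨⟨⟨y, hPM hyP⟩, hYK _ hy, rfl⟩, hyP⟩
    have hUP : U = (F.P : Subgroup G) := by
      refine Subgroup.eq_of_le_of_card_ge inf_le_right ?_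
      have h3 : 3 ∣ Nat.card U := by
        have := Subgroup.card_dvd_of_le hYU
        rwa [hYc, pow_one] at this
      have h9 : Nat.card U ∣ 3 ^ 2 := by
        have := Subgroup.card_dvd_of_le (inf_le_right : U ≤ (F.P : Subgroup G))
        rwa [card_sylow_three hn F.P] at this
      obtain ⟨i, hi, he⟩ := (Nat.dvd_prime_pow (by norm_num : Nat.Prime 3)).mp h9
      rcases (show i ≤ 1 ∨ i = 2 by omega) with h | h
      · exfalso
        have hle : Nat.card U ≤ Nat.card Y := by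
          rw [he, hYc]; exact Nat.pow_le_pow_right (by norm_num) h
        exact hwY ((Subgroup.eq_of_le_of_card_ge hYU hle).ge ⟨⟨w, hw, rfl⟩, hwP⟩)
      · rw [card_sylow_three hn F.P, he, h]; rfl
    have hMN : M ≤ N := fun g hg => by
      refine Subgroup.mem_normalizer_iff.mpr fun y => ?_
      have key : ∀ g ∈ M, ∀ y ∈ (F.P : Subgroup G), g * y * g⁻¹ ∈ (F.P : Subgroup G) := by
        intro g hg y hy
        obtain ⟨⟨w', hw', hw'y⟩, -⟩ := hUP.ge hy
        have hc : (⟨g, hg⟩ : M) * w' * (⟨g, hg⟩ : M)⁻¹ ∈ K := ‹K.Normal›.conj_mem _ hw' _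
        have hN' := hKN _ hc
        have he : ((⟨g, hg⟩ * w' * (⟨g, hg⟩ : M)⁻¹ : M) : G) = g * y * g⁻¹ := by
          rw [← hw'y]; rfl
        rw [he] at hN'
        exact F.mem_of_pow_three ⟨_, hN'⟩ (by
          show (g * y * g⁻¹) ^ 3 ∈ _
          rw [conj_pow, F.cube hy, mul_one, mul_inv_cancel]; exact one_mem _)
      refine ⟨key g hg y, fun h => ?_⟩
      have := key g⁻¹ (inv_mem hg) _ h
      simpa [mul_assoc] using this
    have : H = ⊤ := Subgroup.subgroupOf_eq_top.mpr hMN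
    rw [this, Subgroup.index_top] at hidx
    norm_num at hidx
  -- commutators of `K` with `P`
  have hcomm : ∀ w ∈ K, ∀ p ∈ (F.P : Subgroup G),
      ∃ y ∈ Y, (w : G) * p * (w : G)⁻¹ = y * p := by
    intro w hw p hp
    have hc : w * (⟨p, hPM hp⟩ : M) * w⁻¹ * (⟨p, hPM hp⟩ : M)⁻¹ ∈ K := by
      rw [show w * (⟨p, hPM hp⟩ : M) * w⁻¹ * (⟨p, hPM hp⟩ : M)⁻¹ =
        w * ((⟨p, hPM hp⟩ : M) * w⁻¹ * (⟨p, hPM hp⟩ : M)⁻¹) by group]
      exact mul_mem hw (‹K.Normal›.conj_mem _ (inv_mem hw) _)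
    refine ⟨(w : G) * p * (w : G)⁻¹ * p⁻¹, hKP _ hc ?_, by group⟩
    exact mul_mem ((Subgroup.mem_normalizer_iff.mp (hKN w hw) p).mp hp) (inv_mem hp)
  have hcen : ∀ w ∈ K, (w : G) * k * (w : G)⁻¹ = k → (w : G) ∈ Y := by
    intro w hw hwk
    refine hKP w hw (F.mem_of_pow_three ⟨_, hKN w hw⟩ ?_)
    refine mem_of_centralizes hn F.P fun p hp => mul_inv_eq_iff_eq_mul.mp ?_
    obtain ⟨y, hy, hwp⟩ := hcomm w hw p hp
    have hyw : (w : G) * y * (w : G)⁻¹ = y := by
      obtain ⟨i, rfl⟩ := Subgroup.mem_zpowers_iff.mp hy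
      rw [← conj_zpow, hwk]
    show (w : G) ^ 3 * p * ((w : G) ^ 3)⁻¹ = p
    calc (w : G) ^ 3 * p * ((w : G) ^ 3)⁻¹
        = (w : G) * ((w : G) * ((w : G) * p * (w : G)⁻¹) * (w : G)⁻¹) * (w : G)⁻¹ := by
          rw [pow_succ, pow_two]; group
      _ = (w : G) * ((w : G) * (y * p) * (w : G)⁻¹) * (w : G)⁻¹ := by rw [hwp]
      _ = (w : G) * (((w : G) * y * (w : G)⁻¹) * ((w : G) * p * (w : G)⁻¹)) * (w : G)⁻¹ := by group
      _ = (w : G) * (y * (y * p)) * (w : G)⁻¹ := by rw [hyw, hwp]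
      _ = ((w : G) * y * (w : G)⁻¹) * ((w : G) * y * (w : G)⁻¹) * ((w : G) * p * (w : G)⁻¹) := by group
      _ = y ^ 3 * p := by rw [hyw, hwp, pow_succ, pow_two]; group
      _ = p := by rw [F.cube (Subgroup.zpowers_le.mpr hkP hy), one_mul]
  have hnotP : ∀ w : G, w * w = 1 → w ≠ 1 → w ∈ Y → False := fun w h2 h1 hw =>
    h1 (F.sq_one (Subgroup.zpowers_le.mpr hkP hw) h2)
  have hinvk : ∀ w ∈ K, (w : G) * w = 1 → (w : G) ≠ 1 → (w : G) * k * (w : G)⁻¹ = k⁻¹ := by
    intro w hw h2 h1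
    rcases hyY _ ((Subgroup.mem_normalizer_iff.mp w.2 k).mp (Subgroup.mem_zpowers k)) with e | e | e
    · exact absurd (conj_eq_one_iff.mp e) hk1
    · exact (hnotP _ h2 h1 (hcen w hw e)).elim
    · exact e
  obtain ⟨u, hu⟩ := exists_prime_orderOf_dvd_card' 2 hK2
  set u' : G := ((u : M) : G) with hu'
  have huo : orderOf u' = 2 := by rw [hu', Subgroup.orderOf_coe, Subgroup.orderOf_coe, hu]
  have hu2 : u' * u' = 1 := by rw [← pow_two, ← huo, pow_orderOf_eq_one]
  have hu1 : u' ≠ 1 := fun h => by rw [h, orderOf_one] at huo; omega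
  -- the centralizer of `u` lies in `M`
  have hCM : Subgroup.centralizer ({u'} : Set G) ≤ M := by
    have hfib := Finset.card_le_mul_card_image
      (f := fun g : M => (g : G) * u' * (g : G)⁻¹) (Finset.univ : Finset M)
      (Nat.card ↥(M ⊓ Subgroup.centralizer ({u'} : Set G))) (by
        intro i hi
        obtain ⟨x, -, hx⟩ := Finset.mem_image.mp hi
        rw [Nat.card_eq_fintype_card]
        refine Finset.card_le_card_of_injOn (t := Finset.univ)
          (fun y => if h : ((x : G)⁻¹ * y) ∈ M ⊓ Subgroup.centralizer ({u'} : Set G) then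
            (⟨_, h⟩ : ↥(M ⊓ Subgroup.centralizer ({u'} : Set G))) else 1)
          (fun y _ => Finset.mem_univ _) fun y hy w hw hyw => ?_
        have hmem : ∀ y : M, (y : G) * u' * (y : G)⁻¹ = i →
            (x : G)⁻¹ * (y : G) ∈ M ⊓ Subgroup.centralizer ({u'} : Set G) := by
          intro y hy
          refine ⟨M.mul_mem (M.inv_mem x.2) y.2, Subgroup.mem_centralizer_singleton_iff.mpr ?_⟩
          rw [← hx] at hy
          calc (x : G)⁻¹ * y * u' = (x : G)⁻¹ * ((y : G) * u' * (y : G)⁻¹) * y := by group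
            _ = u' * ((x : G)⁻¹ * y) := by rw [hy]; group
        simp only [Finset.coe_filter] at hy hw
        simp only [dif_pos (hmem y hy.2), dif_pos (hmem w hw.2)] at hyw
        exact Subtype.ext (mul_left_cancel (congrArg Subtype.val hyw)))
    have himg : (Finset.univ.image fun g : M => (g : G) * u' * (g : G)⁻¹).card ≤
        (({1, k, k⁻¹} : Finset G).image fun y => y * u').card := by
      refine Finset.card_le_card fun i hi => ?_
      obtain ⟨g, -, rfl⟩ := Finset.mem_image.mp hi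
      have hc : g * (u : M) * g⁻¹ ∈ K := ‹K.Normal›.conj_mem _ u.2 g
      set c : G := (g : G) * u' * (g : G)⁻¹ with hcdef
      have hc2 : c * c = 1 := by
        rw [hcdef, show (g : G) * u' * (g : G)⁻¹ * ((g : G) * u' * (g : G)⁻¹) = (g : G) * (u' * u') * (g : G)⁻¹ by group,
          hu2]
        group
      have hc1 : c ≠ 1 := fun h => hu1 (conj_eq_one_iff.mp h)
      have hd : c * u' ∈ Y := by
        refine hcen (g * (u : M) * g⁻¹ * u) (mul_mem hc u.2) ?_
        show c * u' * k * (c * u')⁻¹ = k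
        rw [show c * u' * k * (c * u')⁻¹ = c * (u' * k * u'⁻¹) * c⁻¹ by group,
          hinvk u u.2 hu2 hu1, show c * k⁻¹ * c⁻¹ = (c * k * c⁻¹)⁻¹ by group,
          show c * k * c⁻¹ = k⁻¹ from hinvk _ hc hc2 hc1, inv_inv]
      refine Finset.mem_image.mpr ⟨c * u', ?_, by rw [mul_assoc, hu2, mul_one]⟩
      rcases hyY _ hd with e | e | e <;> rw [e] <;> simp
    have h3 : (({1, k, k⁻¹} : Finset G).image fun y => y * u').card ≤ 3 :=
      Finset.card_image_le.trans Finset.card_le_three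
    have hC := (involution_7920 hn).1 u' huo
    rw [Finset.card_univ, ← Nat.card_eq_fintype_card, hM144] at hfib
    have h48 : 48 ≤ Nat.card ↥(M ⊓ Subgroup.centralizer ({u'} : Set G)) := by
      have := Nat.mul_le_mul_left (Nat.card ↥(M ⊓ Subgroup.centralizer ({u'} : Set G))) (himg.trans h3)
      omega
    exact (Subgroup.eq_of_le_of_card_ge inf_le_right (by rw [hC]; exact h48)).ge.trans inf_le_left
  -- `u` is a fourth power
  obtain ⟨x, hx⟩ := F.surj XMat inT_X.1
  have hx8 : (x : G) ^ 8 ∈ (F.P : Subgroup G) := by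
    refine (F.eq_one (x ^ 8)).mp ?_
    rw [map_pow, hx]
    exact inT_X_pow.1
  set h₀ : N := x ^ 9 with hh₀
  have hρh : F.ρ h₀ = XMat := by
    rw [hh₀, map_pow, hx]
    exact inT_X_pow.2.1
  have hh8 : (h₀ : G) ^ 8 = 1 := by
    rw [hh₀, Subgroup.coe_pow, ← pow_mul, mul_comm, pow_mul, show (9 : ℕ) = 3 * 3 by norm_num, pow_mul,
      F.cube hx8, one_pow]
  have hh4 : orderOf ((h₀ : G) ^ 4) = 2 := by
    refine orderOf_eq_prime (by rw [← pow_mul]; exact hh8) fun h => ?_
    have : F.ρ (h₀ ^ 4) = 1 := (F.eq_one _).mpr (by rw [Subgroup.coe_pow, h]; exact one_mem _)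
    rw [map_pow, hρh] at this
    exact inT_X_pow.2.2.1 this
  obtain ⟨g, hg⟩ := isConj_iff.mp ((involution_7920 hn).2 _ _ hh4 huo)
  set h := g * h₀ * g⁻¹ with hh
  have hhu : h ^ 4 = u' := by rw [hh, conj_pow, hg]
  have hhM : h ∈ M := hCM (Subgroup.mem_centralizer_singleton_iff.mpr (by
    rw [← hhu]
    exact ((Commute.refl h).pow_right 4).eq))
  have hsq : h * h * k * (h * h)⁻¹ = k := by
    rcases hyY _ ((Subgroup.mem_normalizer_iff.mp hhM k).mp (Subgroup.mem_zpowers k)) with e | e | e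
    · exact absurd (conj_eq_one_iff.mp e) hk1
    · rw [show h * h * k * (h * h)⁻¹ = h * (h * k * h⁻¹) * h⁻¹ by group, e, e]
    · rw [show h * h * k * (h * h)⁻¹ = h * (h * k * h⁻¹) * h⁻¹ by group, e,
        show h * k⁻¹ * h⁻¹ = (h * k * h⁻¹)⁻¹ by group, e, inv_inv]
  have hfix : u' * k * u'⁻¹ = k := by
    rw [← hhu, show h ^ 4 = h * h * (h * h) by rw [pow_succ, pow_succ, pow_two, mul_assoc],
      show h * h * (h * h) * k * (h * h * (h * h))⁻¹ = h * h * (h * h * k * (h * h)⁻¹) * (h * h)⁻¹ by group,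
      hsq, hsq]
  exact hnotP u' hu2 hu1 (hcen u u.2 hfix)

end CfsgLib.M11Unique
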